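import Groth.Agent.Calg8.Horrocks.Bundle

/-!
Reduced bases for bundles on the projective line over the residue field of a local ring
(Birkhoff–Grothendieck), phrased for bundles killed by the maximal ideal.
-/

universe u

open Polynomial IsLocalRing

namespace Groth.Calg8.Horrocks

/-- `b` is a basis of `M` modulo `J`. -/
def IsModBasis {R : Type*} [CommRing R] (J : Ideal R) {M : Type*} [AddCommGroup M] [Module R M]
    {ι : Type*} [Fintype ι] (b : ι → M) : Prop :=
  Submodule.span R (Set.range b) ⊔ J • ⊤ = ⊤ ∧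
    ∀ p : ι → R, ∑ l, p l • b l ∈ (J • ⊤ : Submodule R M) → ∀ l, p l ∈ J

/-- `m[X]`. -/
noncomputable def maxC (A : Type u) [CommRing A] [IsLocalRing A] : Ideal A[X] :=
  (maximalIdeal A).map Polynomial.C

theorem mem_maxC {A : Type u} [CommRing A] [IsLocalRing A] {p : A[X]} :
    p ∈ maxC A ↔ ∀ a, p.coeff a ∈ maximalIdeal A :=
  Ideal.mem_map_C_iff

namespace Bundle

variable {A : Type u} [CommRing A] {V M N : Type u} [AddCommGroup V] [Module A V]
    [AddCommGroup M] [Module A M] [Module A[X] M] [IsScalarTower A A[X] M]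
    [AddCommGroup N] [Module A N] [Module A[X] N] [IsScalarTower A A[X] N]
    (B : Bundle A V M N)

theorem i_smul_eq_sum (p : A[X]) (m : M) :
    B.i (p • m) = ∑ a ∈ p.support, p.coeff a • (B.τ ^ (a : ℤ)) (B.i m) := by
  conv_lhs => rw [p.as_sum_support_C_mul_X_pow, Finset.sum_smul, map_sum]
  refine Finset.sum_congr rfl fun a _ => ?_
  rw [mul_smul, show (C (p.coeff a) : A[X]) • ((X : A[X]) ^ a • m) = p.coeff a • ((X : A[X]) ^ a • m) from
    algebraMap_smul A[X] _ _, map_smul, i_X_pow]

include B in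
theorem eq_zero_of_X_smul {n : N} (h : (X : A[X]) • n = 0) : n = 0 := by
  have := B.j_X n
  rw [h, map_zero] at this
  exact B.j_inj (by rw [map_zero]; exact B.τ.symm.injective (this.symm.trans (map_zero _).symm))

variable [IsLocalRing A]

/-- No relation `i m = τ^d (j n)` with `d` too negative. -/
def BoundedBelow (K : ℕ) : Prop :=
  ∀ (m : M) (n : N) (d : ℤ), m ≠ 0 → B.i m = (B.τ ^ d) (B.j n) → -(K : ℤ) ≤ d

theorem exists_reduced_basis (hM : ∀ p ∈ maxC A, ∀ m : M, p • m = 0)
    (hN : ∀ p ∈ maxC A, ∀ n : N, p • n = 0) {K : ℕ} (hK : B.BoundedBelow K)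
    {r : ℕ} (b₀ : Fin r → M) (hb₀ : IsModBasis (maxC A) b₀) (hr : r ≠ 0) :
    ∃ (d : ℤ) (l₀ : Fin r) (b : Fin r → M) (w : Fin r → N),
      IsModBasis (maxC A) b ∧ IsModBasis (maxC A) w ∧ B.i (b l₀) = (B.τ ^ d) (B.j (w l₀)) ∧
        ∀ x, ∃ m n, x = B.i m + (B.τ ^ d) (B.j n) := by
  classical
  have hbot : (maxC A • ⊤ : Submodule A[X] M) = ⊥ :=
    eq_bot_iff.2 (Submodule.smul_le.2 fun p hp m _ => (hM p hp m).symm ▸ zero_mem _)
  have hbotN : (maxC A • ⊤ : Submodule A[X] N) = ⊥ :=
    eq_bot_iff.2 (Submodule.smul_le.2 fun p hp n _ => (hN p hp n).symm ▸ zero_mem _)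
  have hC : ∀ {c : A}, c ∈ maximalIdeal A → (C c : A[X]) ∈ maxC A := fun hc => Ideal.mem_map_of_mem _ hc
  -- admissible data
  let Adm : (Fin r → M) → (Fin r → N) → (Fin r → ℤ) → Prop := fun b w e =>
    IsModBasis (maxC A) b ∧ ∀ l, B.i (b l) = (B.τ ^ e l) (B.j (w l))
  have hnz : ∀ {b : Fin r → M}, IsModBasis (maxC A) b → ∀ l, b l ≠ 0 := fun {b} hb l h => by
    have := hb.2 (Pi.single l 1) (by simp [Pi.single_apply, h]) l
    rw [Pi.single_eq_same, mem_maxC] at this
    simpa using this 0
  have hge : ∀ {b w e}, Adm b w e → ∀ l, -(K : ℤ) ≤ e l :=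
    fun h l => hK _ _ _ (hnz h.1 l) (h.2 l)
  let P : ℕ → Prop := fun s => ∃ b w e, Adm b w e ∧ ∑ l, (e l + K).toNat = s
  have hex : ∃ s, P s := by
    choose k n hn using fun l => B.j_exh (B.i (b₀ l))
    exact ⟨_, b₀, n, fun l => (k l : ℤ), ⟨hb₀, fun l => by rw [hn l, ← zpow_add_apply]; simp⟩, rfl⟩
  obtain ⟨b, w, e, hadm, hs⟩ := Nat.find_spec hex
  obtain ⟨hb, hbw⟩ := id hadm
  have hspan : ∀ m : M, ∃ p : Fin r → A[X], ∑ l, p l • b l = m := fun m => by
    have h1 := hb.1
    rw [hbot, sup_bot_eq] at h1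
    exact (Submodule.mem_span_range_iff_exists_fun A[X]).1 (h1 ▸ trivial)
  -- the leading vectors are independent
  have hlead : ∀ q : Fin r → A[X], (∃ n, ∑ l, q l • w l = (X : A[X]) • n) →
      ∀ l, (q l).coeff 0 ∈ maximalIdeal A := by
    rintro q ⟨n, hn⟩
    by_contra hne
    push Not at hne
    let c : Fin r → A := fun l => if (q l).coeff 0 ∈ maximalIdeal A then 0 else (q l).coeff 0
    have hcw : ∀ l, (C (c l) : A[X]) • w l = (C ((q l).coeff 0) : A[X]) • w l := fun l => by
      simp only [c]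
      split_ifs with h
      · rw [map_zero, zero_smul, hN _ (hC h)]
      · rfl
    have hn' : ∑ l, (C (c l) : A[X]) • w l = (X : A[X]) • (n - ∑ l, (q l).divX • w l) := by
      rw [smul_sub, ← hn, Finset.smul_sum, ← Finset.sum_sub_distrib]
      refine Finset.sum_congr rfl fun l _ => ?_
      rw [hcw, smul_smul, ← sub_smul]
      congr 1
      rw [eq_sub_iff_add_eq, add_comm, X_mul_divX_add]
    set n' := n - ∑ l, (q l).divX • w l
    obtain ⟨l₁, hl₁⟩ := hne
    obtain ⟨l₀, hl₀, hmax⟩ := (Finset.univ.filter fun l => c l ≠ 0).exists_max_image e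
      ⟨l₁, by
        simp only [Finset.mem_filter, Finset.mem_univ, true_and, c, if_neg hl₁]
        exact fun h => hl₁ (h ▸ zero_mem _)⟩
    simp only [Finset.mem_filter, Finset.mem_univ, true_and] at hl₀ hmax
    have hunit : IsUnit (c l₀) := by
      simp only [c] at hl₀ ⊢
      split_ifs at hl₀ ⊢ with h
      · exact absurd rfl hl₀
      · exact not_not.1 h
    let R : Fin r → A[X] := fun l => C (c l) * X ^ (e l₀ - e l).toNat
    let b' := ∑ l, R l • b l
    have hib' : B.i b' = (B.τ ^ (e l₀ - 1)) (B.j n') := by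
      have h1 : B.i b' = (B.τ ^ e l₀) (B.j (∑ l, (C (c l) : A[X]) • w l)) := by
        simp only [b', R, map_sum]
        refine Finset.sum_congr rfl fun l _ => ?_
        rw [mul_smul, show ∀ x : M, (C (c l) : A[X]) • x = c l • x from fun x => algebraMap_smul A[X] _ _,
          show (C (c l) : A[X]) • w l = c l • w l from algebraMap_smul A[X] _ _, B.i.map_smul (c l),
          B.j.map_smul (c l), LinearEquiv.map_smul]
        rcases eq_or_ne (c l) 0 with h | h
        · rw [h, zero_smul, zero_smul]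
        · rw [i_X_pow, hbw l, ← zpow_add_apply]
          congr 3
          have := hmax l h
          omega
      rw [h1, hn', B.j_X, show B.τ.symm = B.τ ^ (-1 : ℤ) from (zpow_neg_one _).symm, ← zpow_add_apply]
      congr 2
    have hR0 : R l₀ = C (c l₀) := by simp [R]
    obtain ⟨u, hu⟩ := hunit.map (C : A →+* A[X])
    rw [← hR0] at hu
    have hsum : ∀ p : Fin r → A[X], ∑ l, p l • Function.update b l₀ b' l =
        ∑ l, (if l = l₀ then p l₀ * R l₀ else p l + p l₀ * R l) • b l := fun p => by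
      rw [← Finset.add_sum_erase _ _ (Finset.mem_univ l₀), ← Finset.add_sum_erase _
        (fun l => (if l = l₀ then p l₀ * R l₀ else p l + p l₀ * R l) • b l) (Finset.mem_univ l₀),
        Function.update_self, if_pos rfl]
      have h2 : b' = R l₀ • b l₀ + ∑ l ∈ Finset.univ.erase l₀, R l • b l :=
        (Finset.add_sum_erase _ _ (Finset.mem_univ l₀)).symm
      rw [h2, smul_add, smul_smul, add_assoc, Finset.smul_sum, ← Finset.sum_add_distrib]
      congr 1
      refine Finset.sum_congr rfl fun l hl => ?_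
      rw [Function.update_of_ne (Finset.ne_of_mem_erase hl), if_neg (Finset.ne_of_mem_erase hl),
        smul_smul, add_smul, add_comm]
    have hbasis : IsModBasis (maxC A) (Function.update b l₀ b') := by
      refine ⟨?_, fun p hp l => ?_⟩
      · rw [hbot, sup_bot_eq, eq_top_iff]
        intro m _
        obtain ⟨p, rfl⟩ := hspan m
        refine (Submodule.mem_span_range_iff_exists_fun A[X]).2
          ⟨fun l => if l = l₀ then p l₀ * ↑u⁻¹ else p l - p l₀ * ↑u⁻¹ * R l, ?_⟩
        rw [hsum]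
        refine Finset.sum_congr rfl fun l _ => ?_
        congr 1
        rw [if_pos rfl]
        split_ifs with h
        · subst h
          rw [mul_assoc, ← hu, Units.inv_mul, mul_one]
        · ring
      · rw [hsum] at hp
        have h₀ := hb.2 _ hp l₀
        rw [if_pos rfl, ← hu, Ideal.mul_unit_mem_iff_mem _ u.isUnit] at h₀
        rcases eq_or_ne l l₀ with rfl | h
        · exact h₀
        · have h₁ := hb.2 _ hp l
          rw [if_neg h] at h₁
          exact (Ideal.add_mem_iff_left _ (Ideal.mul_mem_right _ _ h₀)).1 h₁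
    have hadm' : Adm (Function.update b l₀ b') (Function.update w l₀ n') (Function.update e l₀ (e l₀ - 1)) := by
      refine ⟨hbasis, fun l => ?_⟩
      rcases eq_or_ne l l₀ with rfl | h
      · simp only [Function.update_self]; exact hib'
      · simp only [Function.update_of_ne h]; exact hbw l
    refine Nat.find_min hex ?_ ⟨_, _, _, hadm', rfl⟩
    rw [← hs]
    refine Finset.sum_lt_sum (fun l _ => ?_) ⟨l₀, Finset.mem_univ _, ?_⟩
    · rcases eq_or_ne l l₀ with rfl | h
      · rw [Function.update_self]; omega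
      · rw [Function.update_of_ne h]
    · have h1 := hge hadm' l₀
      rw [Function.update_self] at h1 ⊢
      omega
  -- `w` is a basis
  have hwind : ∀ (a : ℕ) (q : Fin r → A[X]), ∑ l, q l • w l = 0 → ∀ l, (q l).coeff a ∈ maximalIdeal A := by
    intro a
    induction a with
    | zero => exact fun q hq => hlead q ⟨0, by rw [hq, smul_zero]⟩
    | succ a ih =>
      intro q hq l
      rw [← coeff_divX]
      refine ih (fun l => (q l).divX) (B.eq_zero_of_X_smul ?_) l
      rw [Finset.smul_sum, ← hq]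
      refine Finset.sum_congr rfl fun l' _ => ?_
      conv_rhs => rw [← X_mul_divX_add (q l'), add_smul, hN _ (hC (hlead q ⟨0, by rw [hq, smul_zero]⟩ l')),
        add_zero]
      rw [smul_smul]
  have hwspan : ∀ n : N, n ∈ Submodule.span A[X] (Set.range w) := by
    intro n
    obtain ⟨D, m, hm⟩ := B.i_exh (B.j n)
    obtain ⟨p, rfl⟩ := hspan m
    have hne : (insert (D : ℤ) ((Finset.univ : Finset (Fin r)).biUnion fun l =>
      ((p l).support.filter fun a => (p l).coeff a ∉ maximalIdeal A).image fun (a : ℕ) => (a : ℤ) + e l)).Nonempty :=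
      ⟨_, Finset.mem_insert_self _ _⟩
    set E := Finset.max' _ hne with hEdef
    have hDE : (D : ℤ) ≤ E := Finset.le_max' _ _ (Finset.mem_insert_self _ _)
    have hEle : ∀ l, ∀ a ∈ (p l).support, (p l).coeff a ∉ maximalIdeal A → (a : ℤ) + e l ≤ E :=
      fun l a ha hc => Finset.le_max' _ _ (Finset.mem_insert_of_mem (Finset.mem_biUnion.2
        ⟨l, Finset.mem_univ _, Finset.mem_image.2 ⟨a, Finset.mem_filter.2 ⟨ha, hc⟩, rfl⟩⟩))
    let q : Fin r → A[X] := fun l => ∑ a ∈ (p l).support, C ((p l).coeff a) * X ^ (E - e l - a).toNat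
    have hjq : B.j (∑ l, q l • w l) = (B.τ ^ (-E)) (B.i (∑ l, p l • b l)) := by
      simp only [q, map_sum, Finset.sum_smul, i_smul_eq_sum, map_smul]
      refine Finset.sum_congr rfl fun l _ => Finset.sum_congr rfl fun a ha => ?_
      rw [mul_smul, show ∀ x : N, (C ((p l).coeff a) : A[X]) • x = (p l).coeff a • x from
        fun x => algebraMap_smul A[X] _ _, map_smul]
      by_cases hc : (p l).coeff a ∈ maximalIdeal A
      · have h1 : (p l).coeff a • b l = 0 := by
          rw [← algebraMap_smul A[X]]; exact hM _ (hC hc) _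
        have h2 : (p l).coeff a • w l = 0 := by
          rw [← algebraMap_smul A[X]]; exact hN _ (hC hc) _
        rw [j_X_pow, ← map_smul, ← map_smul, h2, ← map_smul (B.τ ^ (-E)), ← map_smul (B.τ ^ (a : ℤ)),
          ← map_smul B.i, h1, map_zero, map_zero, map_zero, map_zero, map_zero]
      · rw [j_X_pow, hbw l, ← zpow_add_apply, ← zpow_add_apply]
        congr 3
        have := hEle l a ha hc
        omega
    have hqn : ∑ l, q l • w l = (X : A[X]) ^ (E - D).toNat • n := B.j_inj (by
      rw [hjq, hm, j_X_pow, ← zpow_add_apply]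
      congr 2
      omega)
    rcases eq_or_lt_of_le hDE with h | h
    · rw [← h, sub_self, Int.toNat_zero, pow_zero, one_smul] at hqn
      rw [← hqn]
      exact sum_mem fun l _ => Submodule.smul_mem _ _ (Submodule.subset_span ⟨l, rfl⟩)
    · exfalso
      have hEmem := Finset.max'_mem _ hne
      rw [← hEdef, Finset.mem_insert, Finset.mem_biUnion] at hEmem
      obtain hEq | ⟨l₁, -, hl₁⟩ := hEmem
      · omega
      obtain ⟨a₁, ha₁, ha₁E⟩ := Finset.mem_image.1 hl₁
      obtain ⟨ha₁s, ha₁m⟩ := Finset.mem_filter.1 ha₁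
      have h0 := hlead q ⟨(X : A[X]) ^ ((E - D).toNat - 1) • n, by
        rw [hqn, smul_smul, ← pow_succ', show (E - D).toNat - 1 + 1 = (E - D).toNat by omega]⟩ l₁
      simp only [q, finsetSum_coeff, coeff_C_mul_X_pow] at h0
      rw [← Finset.add_sum_erase _ _ ha₁s] at h0
      rw [if_pos (by omega)] at h0
      refine ha₁m ((Submodule.add_mem_iff_left _ ?_).1 h0)
      refine sum_mem fun a ha => ?_
      split_ifs with hz
      · by_contra hc
        have := hEle l₁ a (Finset.mem_of_mem_erase ha) hc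
        have := Finset.ne_of_mem_erase ha
        omega
      · exact zero_mem _
  have hw : IsModBasis (maxC A) w := by
    refine ⟨?_, fun q hq l => mem_maxC.2 fun a => hwind a q ?_ l⟩
    · rw [hbotN, sup_bot_eq, eq_top_iff]
      exact fun n _ => hwspan n
    · rwa [hbotN, Submodule.mem_bot] at hq
  obtain ⟨l₀, -, hl₀⟩ := Finset.univ.exists_max_image e
    (Finset.univ_nonempty_iff.2 ⟨⟨0, by omega⟩⟩)
  refine ⟨e l₀, l₀, b, w, hb, hw, hbw l₀, fun x => ?_⟩
  let G : Submodule A V := LinearMap.range B.i ⊔ LinearMap.range ((B.τ ^ e l₀ : V ≃ₗ[A] V).toLinearMap ∘ₗ B.j)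
  have hG : x ∈ G := by
    obtain ⟨k, m, hm⟩ := B.i_exh x
    obtain ⟨p, rfl⟩ := hspan m
    have hx : x = (B.τ ^ (-(k : ℤ))) (B.i (∑ l, p l • b l)) := by
      rw [hm, ← zpow_add_apply, neg_add_cancel, zpow_zero]; rfl
    rw [hx]
    simp only [map_sum, i_smul_eq_sum, map_smul]
    refine sum_mem fun l _ => sum_mem fun a _ => Submodule.smul_mem _ _ ?_
    rw [← zpow_add_apply]
    rcases le_or_gt 0 (-(k : ℤ) + a) with h | h
    · refine Submodule.mem_sup_left ⟨(X : A[X]) ^ (-(k : ℤ) + a).toNat • b l, ?_⟩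
      rw [i_X_pow, Int.toNat_of_nonneg h]
    · refine Submodule.mem_sup_right ⟨(X : A[X]) ^ (e l₀ - e l - (-(k : ℤ) + a)).toNat • w l, ?_⟩
      show (B.τ ^ e l₀) (B.j _) = _
      rw [j_X_pow, hbw l, ← zpow_add_apply, ← zpow_add_apply]
      congr 2
      have := hl₀ l (Finset.mem_univ l)
      omega
  obtain ⟨_, ⟨m, rfl⟩, _, ⟨n, rfl⟩, hmn⟩ := Submodule.mem_sup.1 hG
  exact ⟨m, n, hmn.symm⟩

end Bundle

end Groth.Calg8.Horrocks
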