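import Groth.Agent.Ega4Algebra1.PdBasic
import Mathlib

/-!
Vector bundles on the projective line given by gluing, and their reductions.
-/

universe u

open Polynomial
open scoped LaurentPolynomial

namespace Groth.Calg8.Horrocks

/-- Gluing data: `M` on the chart `t`, `N` on the chart `t⁻¹`, both mapping to the sections `V`
over the intersection, on which `t` acts by `τ`. -/
structure Bundle (A : Type u) [CommRing A] (V M N : Type u) [AddCommGroup V] [Module A V]
    [AddCommGroup M] [Module A M] [Module A[X] M] [IsScalarTower A A[X] M]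
    [AddCommGroup N] [Module A N] [Module A[X] N] [IsScalarTower A A[X] N] where
  τ : V ≃ₗ[A] V
  i : M →ₗ[A] V
  j : N →ₗ[A] V
  i_inj : Function.Injective i
  j_inj : Function.Injective j
  i_X : ∀ m, i ((X : A[X]) • m) = τ (i m)
  j_X : ∀ n, j ((X : A[X]) • n) = τ.symm (j n)
  i_exh : ∀ v, ∃ k : ℕ, (τ ^ (k : ℤ)) v ∈ LinearMap.range i
  j_exh : ∀ v, ∃ k : ℕ, (τ ^ (-(k : ℤ))) v ∈ LinearMap.range j

namespace Bundle

variable {A : Type u} [CommRing A] {V M N : Type u} [AddCommGroup V] [Module A V]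
    [AddCommGroup M] [Module A M] [Module A[X] M] [IsScalarTower A A[X] M]
    [AddCommGroup N] [Module A N] [Module A[X] N] [IsScalarTower A A[X] N]
    (B : Bundle A V M N)

theorem zpow_add_apply (a b : ℤ) (v : V) : (B.τ ^ (a + b)) v = (B.τ ^ a) ((B.τ ^ b) v) := by
  rw [zpow_add]; rfl

theorem i_X_pow (k : ℕ) (m : M) : B.i ((X : A[X]) ^ k • m) = (B.τ ^ (k : ℤ)) (B.i m) := by
  induction k with
  | zero => simp
  | succ k ih =>
    rw [pow_succ', mul_smul, B.i_X, ih, Nat.cast_succ, add_comm, zpow_add_apply, zpow_one]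

theorem j_X_pow (k : ℕ) (n : N) : B.j ((X : A[X]) ^ k • n) = (B.τ ^ (-(k : ℤ))) (B.j n) := by
  induction k with
  | zero => simp
  | succ k ih =>
    rw [pow_succ', mul_smul, B.j_X, ih, Nat.cast_succ, neg_add_rev, zpow_add_apply, zpow_neg_one]
    rfl

/-- The bundle with the two charts exchanged. -/
def swap : Bundle A V N M where
  τ := B.τ.symm
  i := B.j
  j := B.i
  i_inj := B.j_inj
  j_inj := B.i_inj
  i_X := B.j_X
  j_X := fun m => by rw [B.i_X]; rfl
  i_exh := fun v => by
    obtain ⟨k, hk⟩ := B.j_exh v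
    exact ⟨k, by rwa [show B.τ.symm = B.τ⁻¹ from rfl, inv_zpow']⟩
  j_exh := fun v => by
    obtain ⟨k, hk⟩ := B.i_exh v
    exact ⟨k, by rwa [show B.τ.symm = B.τ⁻¹ from rfl, inv_zpow', neg_neg]⟩

/-- The twist by `d`. -/
def twist (d : ℤ) : Bundle A V M N where
  τ := B.τ
  i := B.i
  j := (B.τ ^ d : V ≃ₗ[A] V).toLinearMap ∘ₗ B.j
  i_inj := B.i_inj
  j_inj := (B.τ ^ d : V ≃ₗ[A] V).injective.comp B.j_inj
  i_X := B.i_X
  j_X := fun n => by
    show (B.τ ^ d) (B.j _) = B.τ.symm ((B.τ ^ d) (B.j n))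
    rw [B.j_X, show B.τ.symm = B.τ ^ (-1 : ℤ) from (zpow_neg_one _).symm, ← zpow_add_apply,
      ← zpow_add_apply, add_comm]
  i_exh := B.i_exh
  j_exh := fun v => by
    obtain ⟨k, n, hn⟩ := B.j_exh ((B.τ ^ (-d)) v)
    refine ⟨k, n, ?_⟩
    show (B.τ ^ d) (B.j n) = _
    rw [hn, ← zpow_add_apply, ← zpow_add_apply]
    congr 2
    ring

theorem i_exh_of_le {v : V} {m : M} {k l : ℕ} (h : B.i m = (B.τ ^ (k : ℤ)) v) (hkl : k ≤ l) :
    B.i ((X : A[X]) ^ (l - k) • m) = (B.τ ^ (l : ℤ)) v := by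
  rw [i_X_pow, h, ← zpow_add_apply]
  congr 2
  omega

/-! ### Extension of functionals -/

variable (l : M →ₗ[A[X]] A[X])

open LaurentPolynomial in
/-- Extension of a functional on `M` to `V`. -/
noncomputable def extendFun (v : V) : A[T;T⁻¹] :=
  T (-((B.i_exh v).choose : ℤ)) * toLaurent (l (B.i_exh v).choose_spec.choose)

open LaurentPolynomial in
theorem extendFun_eq {v : V} {k : ℕ} {m : M} (h : B.i m = (B.τ ^ (k : ℤ)) v) :
    B.extendFun l v = T (-(k : ℤ)) * toLaurent (l m) := by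
  unfold extendFun
  set k₀ := (B.i_exh v).choose
  have h₀ : B.i (B.i_exh v).choose_spec.choose = (B.τ ^ (k₀ : ℤ)) v := (B.i_exh v).choose_spec.choose_spec
  set m₀ := (B.i_exh v).choose_spec.choose
  have e := B.i_inj ((B.i_exh_of_le h₀ (le_max_left k₀ k)).trans (B.i_exh_of_le h (le_max_right k₀ k)).symm)
  have e' := congrArg (fun x => T (-((max k₀ k : ℕ) : ℤ)) * toLaurent (l x)) e
  simp only [map_smul, smul_eq_mul, map_mul, toLaurent_X_pow, ← mul_assoc, ← T_add] at e'
  rwa [show -((max k₀ k : ℕ) : ℤ) + ((max k₀ k - k₀ : ℕ) : ℤ) = -(k₀ : ℤ) by omega,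
    show -((max k₀ k : ℕ) : ℤ) + ((max k₀ k - k : ℕ) : ℤ) = -(k : ℤ) by omega] at e'

open LaurentPolynomial in
/-- Extension of a functional on `M` to `V`, as a linear map. -/
noncomputable def extend : V →ₗ[A] A[T;T⁻¹] where
  toFun := B.extendFun l
  map_add' v w := by
    obtain ⟨k, m, hm⟩ := B.i_exh v
    obtain ⟨k', m', hm'⟩ := B.i_exh w
    have h₁ := B.i_exh_of_le hm (le_max_left k k')
    have h₂ := B.i_exh_of_le hm' (le_max_right k k')
    have h₃ : B.i ((X : A[X]) ^ (max k k' - k) • m + (X : A[X]) ^ (max k k' - k') • m') =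
        (B.τ ^ ((max k k' : ℕ) : ℤ)) (v + w) := by rw [map_add, map_add, h₁, h₂]
    rw [B.extendFun_eq l h₁, B.extendFun_eq l h₂, B.extendFun_eq l h₃, map_add, map_add, mul_add]
  map_smul' c v := by
    obtain ⟨k, m, hm⟩ := B.i_exh v
    have h₃ : B.i (c • m) = (B.τ ^ (k : ℤ)) (c • v) := by rw [map_smul, map_smul, hm]
    rw [B.extendFun_eq l hm, B.extendFun_eq l h₃, LinearMap.map_smul_of_tower]
    simp [Polynomial.smul_eq_C_mul, LaurentPolynomial.smul_eq_C_mul, toLaurent_C]
    ring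

theorem extend_i (m : M) : B.extend l (B.i m) = toLaurent (l m) := by
  show B.extendFun l (B.i m) = _
  rw [B.extendFun_eq l (k := 0) (m := m) (by simp)]
  simp

open LaurentPolynomial in
theorem extend_zpow (z : ℤ) (v : V) : B.extend l ((B.τ ^ z) v) = T z * B.extend l v := by
  obtain ⟨k, m, hm⟩ := B.i_exh v
  show B.extendFun l _ = T z * B.extendFun l v
  have h₁ := B.i_exh_of_le hm (Nat.le_add_right k z.natAbs)
  have h₂ : B.i ((X : A[X]) ^ (k + z.natAbs - k) • m) =
      (B.τ ^ (((k : ℤ) + z.natAbs - z).toNat : ℤ)) ((B.τ ^ z) v) := by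
    rw [h₁, ← zpow_add_apply]
    congr 2
    omega
  rw [B.extendFun_eq l h₁, B.extendFun_eq l h₂, ← mul_assoc, ← T_add]
  congr 2
  omega

open LaurentPolynomial in
theorem invert_extend_smul (p : A[X]) (n : N) :
    invert (B.extend l (B.j (p • n))) = toLaurent p * invert (B.extend l (B.j n)) := by
  induction p using Polynomial.induction_on' with
  | add p q hp hq => rw [add_smul, map_add, map_add, map_add, hp, hq, map_add, add_mul]
  | monomial a c =>
    rw [← C_mul_X_pow_eq_monomial, mul_smul, toLaurent_C_mul_X_pow,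
      show (Polynomial.C c : A[X]) • ((X : A[X]) ^ a • n) = c • ((X : A[X]) ^ a • n) from algebraMap_smul A[X] c _,
      map_smul, B.j_X_pow, map_smul, B.extend_zpow, map_smul, map_mul, invert_T, neg_neg,
      LaurentPolynomial.smul_eq_C_mul, mul_assoc]

open LaurentPolynomial in
/-- The functional on `N` which corresponds to a functional on `M`, after a twist. -/
theorem exists_transpose [Module.Finite A[X] N] :
    ∃ (K : ℕ) (μ : N →ₗ[A[X]] A[X]), ∀ n,
      toLaurent (μ n) = T (K : ℤ) * invert (B.extend l (B.j n)) := by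
  obtain ⟨g, gen, hgen⟩ := Module.Finite.exists_fin (R := A[X]) (M := N)
  have hk : ∀ a, ∃ (k : ℕ) (p : A[X]), toLaurent p = invert (B.extend l (B.j (gen a))) * T (k : ℤ) :=
    fun a => exists_T_pow _
  choose k p hp using hk
  set K := Finset.univ.sup k
  have hrange : ∀ n, ∃ q : A[X], toLaurent q = T (K : ℤ) * invert (B.extend l (B.j n)) := by
    intro n
    have hn : n ∈ Submodule.span A[X] (Set.range gen) := hgen ▸ trivial
    induction hn using Submodule.span_induction with
    | mem x hx =>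
      obtain ⟨a, rfl⟩ := hx
      refine ⟨X ^ (K - k a) * p a, ?_⟩
      rw [map_mul, toLaurent_X_pow, hp, mul_comm (invert _), ← mul_assoc, ← T_add]
      congr 2
      have : k a ≤ K := Finset.le_sup (Finset.mem_univ a)
      omega
    | zero => exact ⟨0, by simp⟩
    | add x y _ _ hx hy =>
      obtain ⟨q, hq⟩ := hx
      obtain ⟨q', hq'⟩ := hy
      exact ⟨q + q', by rw [map_add, map_add, map_add, map_add, hq, hq', mul_add]⟩
    | smul c x _ hx =>
      obtain ⟨q, hq⟩ := hx
      exact ⟨c * q, by rw [map_mul, hq, invert_extend_smul, mul_left_comm]⟩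
  choose μ hμ using hrange
  refine ⟨K, { toFun := μ, map_add' := fun x y => ?_, map_smul' := fun c x => ?_ }, hμ⟩
  · apply toLaurent_injective
    rw [map_add, hμ, hμ, hμ, map_add, map_add, map_add, mul_add]
  · apply toLaurent_injective
    rw [RingHom.id_apply, smul_eq_mul, map_mul, hμ, hμ, invert_extend_smul, mul_left_comm]

/-! ### Quotients -/

variable (U : Submodule A V) (M₁ : Submodule A[X] M) (N₁ : Submodule A[X] N)

/-- The quotient of a bundle by compatible submodules. -/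
noncomputable def quot (hU : U.map B.τ.toLinearMap = U)
    (hi : ∀ m, B.i m ∈ U ↔ m ∈ M₁) (hj : ∀ n, B.j n ∈ U ↔ n ∈ N₁) :
    Bundle A (V ⧸ U) (M ⧸ M₁) (N ⧸ N₁) :=
  let τ' : (V ⧸ U) ≃ₗ[A] (V ⧸ U) := Submodule.Quotient.equiv U U B.τ hU
  have hmk : ∀ (z : ℤ) (v : V), (τ' ^ z) (Submodule.Quotient.mk v) = Submodule.Quotient.mk ((B.τ ^ z) v) := by
    intro z
    induction z with
    | zero => intro v; rfl
    | succ a ih =>
      intro v
      rw [add_comm, zpow_add, zpow_add, zpow_one, zpow_one]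
      show τ' ((τ' ^ (a : ℤ)) _) = _
      rw [ih]; rfl
    | pred a ih =>
      intro v
      rw [sub_eq_add_neg, add_comm, zpow_add, zpow_add, zpow_neg_one, zpow_neg_one]
      show τ'.symm ((τ' ^ (-(a : ℤ))) _) = _
      rw [ih, LinearEquiv.symm_apply_eq]
      show _ = Submodule.Quotient.mk (B.τ (B.τ.symm _))
      rw [LinearEquiv.apply_symm_apply]
      rfl
  { τ := τ'
    i := (M₁.restrictScalars A).liftQ (U.mkQ ∘ₗ B.i)
      (fun m hm => (Submodule.Quotient.mk_eq_zero U).2 ((hi m).2 hm)) ∘ₗ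
        (Submodule.Quotient.restrictScalarsEquiv A M₁).symm.toLinearMap
    j := (N₁.restrictScalars A).liftQ (U.mkQ ∘ₗ B.j)
      (fun n hn => (Submodule.Quotient.mk_eq_zero U).2 ((hj n).2 hn)) ∘ₗ
        (Submodule.Quotient.restrictScalarsEquiv A N₁).symm.toLinearMap
    i_inj := by
      rw [injective_iff_map_eq_zero]
      intro x hx
      obtain ⟨m, rfl⟩ := Submodule.Quotient.mk_surjective M₁ x
      exact (Submodule.Quotient.mk_eq_zero M₁).2 ((hi m).1 ((Submodule.Quotient.mk_eq_zero U).1 hx))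
    j_inj := by
      rw [injective_iff_map_eq_zero]
      intro x hx
      obtain ⟨n, rfl⟩ := Submodule.Quotient.mk_surjective N₁ x
      exact (Submodule.Quotient.mk_eq_zero N₁).2 ((hj n).1 ((Submodule.Quotient.mk_eq_zero U).1 hx))
    i_X := fun x => by
      obtain ⟨m, rfl⟩ := Submodule.Quotient.mk_surjective M₁ x
      show (Submodule.Quotient.mk (B.i ((X : A[X]) • m)) : V ⧸ U) = Submodule.Quotient.mk (B.τ (B.i m))
      rw [B.i_X]
    j_X := fun x => by
      obtain ⟨n, rfl⟩ := Submodule.Quotient.mk_surjective N₁ x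
      show (Submodule.Quotient.mk (B.j ((X : A[X]) • n)) : V ⧸ U) = τ'.symm (Submodule.Quotient.mk (B.j n))
      rw [B.j_X, LinearEquiv.eq_symm_apply]
      show Submodule.Quotient.mk (B.τ (B.τ.symm _)) = _
      rw [LinearEquiv.apply_symm_apply]
    i_exh := fun x => by
      obtain ⟨v, rfl⟩ := Submodule.Quotient.mk_surjective U x
      obtain ⟨k, m, hm⟩ := B.i_exh v
      refine ⟨k, Submodule.Quotient.mk m, ?_⟩
      rw [hmk, ← hm]; rfl
    j_exh := fun x => by
      obtain ⟨v, rfl⟩ := Submodule.Quotient.mk_surjective U x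
      obtain ⟨k, n, hn⟩ := B.j_exh v
      refine ⟨k, Submodule.Quotient.mk n, ?_⟩
      rw [hmk, ← hn]; rfl }

end Bundle

end Groth.Calg8.Horrocks
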