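import Groth.Agent.Calg8.Horrocks.Birkhoff

/-!
Horrocks' theorem over a local ring: a bundle on the projective line is free on the affine line.
-/

universe u

open Polynomial IsLocalRing

namespace Groth.Calg8.Horrocks

variable {A : Type u} [CommRing A]

section Laurent

open scoped LaurentPolynomial

theorem coeff_toLaurent_natCast (p : A[X]) (a : ℕ) : (toLaurent p).coeff (a : ℤ) = p.coeff a := by
  rw [toLaurent_apply]
  exact Finsupp.mapDomain_apply Nat.cast_injective _ _

theorem coeff_toLaurent_of_neg (p : A[X]) {z : ℤ} (hz : z < 0) : (toLaurent p).coeff z = 0 := by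
  rw [toLaurent_apply]
  refine Finsupp.mapDomain_of_notMem_range _ _ ?_
  rintro ⟨a, rfl⟩
  omega

theorem coeff_T_mul (f : A[T;T⁻¹]) (z a : ℤ) : (LaurentPolynomial.T z * f).coeff a = f.coeff (a - z) := by
  induction f using LaurentPolynomial.induction_on' with
  | add p q hp hq => rw [mul_add, AddMonoidAlgebra.coeff_add, Finsupp.add_apply, hp, hq, AddMonoidAlgebra.coeff_add, Finsupp.add_apply]
  | C_mul_T n r =>
    rw [mul_left_comm, ← LaurentPolynomial.T_add, ← LaurentPolynomial.single_eq_C_mul_T,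
      ← LaurentPolynomial.single_eq_C_mul_T]
    simp only [AddMonoidAlgebra.coeff_single, Finsupp.single_apply]
    congr 1
    exact propext ⟨fun h => by omega, fun h => by omega⟩

end Laurent

variable [IsLocalRing A]

theorem maxC_smul_eq (M : Type u) [AddCommGroup M] [Module A M] [Module A[X] M] [IsScalarTower A A[X] M]
    {c : A} (hc : c ∈ maximalIdeal A) (m : M) : c • m ∈ (maxC A • ⊤ : Submodule A[X] M) := by
  rw [← algebraMap_smul A[X]]
  exact Submodule.smul_mem_smul (Ideal.mem_map_of_mem _ hc) trivial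

theorem subsingleton_of_maxC_smul_top (M : Type u) [AddCommGroup M] [Module A[X] M]
    [Module.Finite A[X] M] [Module.Projective A[X] M] (h : (maxC A • ⊤ : Submodule A[X] M) = ⊤) :
    Subsingleton M := by
  obtain ⟨e, he, hem⟩ := Submodule.exists_mem_and_smul_eq_self_of_fg_of_le_smul (maxC A)
    (⊤ : Submodule A[X] M) Module.Finite.fg_top h.ge
  refine subsingleton_of_forall_eq 0 fun m => (Module.forall_dual_apply_eq_zero_iff A[X] m).1 fun φ => ?_
  set p := φ m
  have hp : e * p = p := by rw [← smul_eq_mul, ← map_smul, hem m trivial]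
  by_contra hne
  have h2 := congrArg (fun q : A[X] => q.coeff p.natTrailingDegree) hp
  have h3 : (e * p).coeff p.natTrailingDegree = e.coeff 0 * p.coeff p.natTrailingDegree := by
    rw [coeff_mul, Finset.sum_eq_single (0, p.natTrailingDegree)]
    · rintro ⟨a, b⟩ hab hne'
      have hab : a + b = p.natTrailingDegree := Finset.HasAntidiagonal.mem_antidiagonal.1 hab
      rw [coeff_eq_zero_of_lt_natTrailingDegree (show b < p.natTrailingDegree by
        by_contra hb
        exact hne' (Prod.ext (by omega) (by omega))), mul_zero]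
    · simp
  simp only [h3] at h2
  have h4 : IsUnit (1 - e.coeff 0) := by
    refine (IsLocalRing.isUnit_or_isUnit_one_sub_self (e.coeff 0)).resolve_left fun hu => ?_
    exact (mem_maximalIdeal _).1 (mem_maxC.1 he 0) hu
  have h5 : (1 - e.coeff 0) * p.coeff p.natTrailingDegree = 0 := by rw [sub_mul, h2, one_mul, sub_self]
  exact hne (trailingCoeff_eq_zero.1 ((h4.mul_right_eq_zero).1 h5))

theorem exists_isModBasis (M : Type u) [AddCommGroup M] [Module A[X] M] [Module.Finite A[X] M]
    [Module.Projective A[X] M] : ∃ (r : ℕ) (b : Fin r → M), IsModBasis (maxC A) b := by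
  classical
  let R := A[X] ⧸ maxC A
  let Mb := M ⧸ (maxC A • ⊤ : Submodule A[X] M)
  let e : (A ⧸ maximalIdeal A)[X] ≃+* R := Ideal.polynomialQuotientEquivQuotientPolynomial (maximalIdeal A)
  let _ : Field (A ⧸ maximalIdeal A) := Ideal.Quotient.field _
  have : IsDomain R := e.symm.toMulEquiv.isDomain _
  have : IsPrincipalIdealRing R := IsPrincipalIdealRing.of_surjective e.toRingHom e.surjective
  have : Module.Finite R Mb := Module.Finite.of_restrictScalars_finite A[X] R Mb
  have : Module.Projective R Mb := Groth.Ega4Algebra1.projective_quotient M (maxC A)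
  have : Module.Free R Mb := inferInstance
  let bb := Module.finBasis R Mb
  choose b hb using fun l => Submodule.Quotient.mk_surjective (maxC A • ⊤ : Submodule A[X] M) (bb l)
  have hmk : ∀ (p : A[X]) (m : M), (Submodule.Quotient.mk (p • m) : Mb) =
      Ideal.Quotient.mk (maxC A) p • (Submodule.Quotient.mk m : Mb) := fun p m => rfl
  have hsum : ∀ p : Fin _ → A[X], (Submodule.Quotient.mk (∑ l, p l • b l) : Mb) =
      ∑ l, Ideal.Quotient.mk (maxC A) (p l) • bb l := fun p => by
    rw [← Submodule.mkQ_apply, map_sum]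
    simp only [Submodule.mkQ_apply, hmk, hb]
  refine ⟨_, b, ?_, fun p hp l => ?_⟩
  · rw [eq_top_iff]
    intro m _
    choose p hp using fun l => Ideal.Quotient.mk_surjective (bb.repr (Submodule.Quotient.mk m) l)
    have h : m - ∑ l, p l • b l ∈ (maxC A • ⊤ : Submodule A[X] M) := by
      rw [← Submodule.Quotient.mk_eq_zero, Submodule.Quotient.mk_sub, hsum]
      simp only [hp, bb.sum_repr, sub_self]
    exact Submodule.mem_sup.2 ⟨∑ l, p l • b l, sum_mem fun l _ =>
      Submodule.smul_mem _ _ (Submodule.subset_span ⟨l, rfl⟩), _, h, add_sub_cancel _ _⟩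
  · rw [← Submodule.Quotient.mk_eq_zero, hsum] at hp
    exact Ideal.Quotient.eq_zero_iff_mem.1 (Fintype.linearIndependent_iff.1 bb.linearIndependent _ hp l)

/-- Coordinates modulo `maxC`. -/
theorem exists_coords {M : Type u} [AddCommGroup M] [Module A[X] M] [Module.Projective A[X] M]
    {r : ℕ} {b : Fin r → M} (hb : IsModBasis (maxC A) b) :
    ∃ σ : M →ₗ[A[X]] (Fin r → A[X]), (∀ m, m - ∑ l, σ m l • b l ∈ (maxC A • ⊤ : Submodule A[X] M)) ∧
      ∀ l l', σ (b l) l' - (if l' = l then 1 else 0) ∈ maxC A := by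
  classical
  let J : Submodule A[X] M := maxC A • ⊤
  let π : (Fin r → A[X]) →ₗ[A[X]] M ⧸ J := J.mkQ ∘ₗ Fintype.linearCombination A[X] b
  have hπ : Function.Surjective π := by
    intro x
    obtain ⟨m, rfl⟩ := Submodule.Quotient.mk_surjective _ x
    obtain ⟨y, hy, z, hz, rfl⟩ := Submodule.mem_sup.1 (show m ∈ Submodule.span A[X] (Set.range b) ⊔ J from hb.1.symm ▸ Submodule.mem_top)
    obtain ⟨p, rfl⟩ := (Submodule.mem_span_range_iff_exists_fun A[X]).1 hy
    refine ⟨p, ?_⟩
    show Submodule.Quotient.mk _ = _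
    rw [Submodule.Quotient.eq, Fintype.linearCombination_apply, sub_add_cancel_left]
    exact neg_mem hz
  obtain ⟨σ, hσ⟩ := Module.projective_lifting_property π J.mkQ hπ
  have h1 : ∀ m, m - ∑ l, σ m l • b l ∈ J := fun m => by
    have h2 := LinearMap.congr_fun hσ m
    simp only [π, LinearMap.comp_apply, Fintype.linearCombination_apply, Submodule.mkQ_apply] at h2
    exact (Submodule.Quotient.eq J).1 h2.symm
  refine ⟨σ, h1, fun l l' => hb.2 (fun l' => σ (b l) l' - (if l' = l then 1 else 0)) ?_ l'⟩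
  simp only [sub_smul, Finset.sum_sub_distrib, ite_smul, one_smul, zero_smul, Finset.sum_ite_eq',
    Finset.mem_univ, if_true]
  rw [← neg_sub]
  exact neg_mem (h1 (b l))

/-- An ideal of `A[X]` containing a monic polynomial up to unit and comaximal with `m[X]` is everything. -/
theorem ideal_eq_top_of_monic {O : Ideal A[X]} (h : O ⊔ maxC A = ⊤) {g : A[X]} (hg : g.Monic)
    (hgO : g ∈ O) : O = ⊤ := by
  have : Module.Finite A (A[X] ⧸ O) := by
    have : Module.Finite A (AdjoinRoot g) := hg.finite_adjoinRoot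
    have : Module.Finite A (A[X] ⧸ Ideal.span {g}) := hg.finite_adjoinRoot
    have hle : Ideal.span {g} ≤ O := (Ideal.span_singleton_le_iff_mem _).2 hgO
    exact Module.Finite.of_surjective (Ideal.Quotient.factorₐ A hle).toLinearMap
      (Ideal.Quotient.factor_surjective hle)
  have hle : (⊤ : Submodule A (A[X] ⧸ O)) ≤ maximalIdeal A • ⊤ := by
    intro x _
    obtain ⟨p, rfl⟩ := Ideal.Quotient.mk_surjective x
    obtain ⟨o, ho, e, he, hoe⟩ := Submodule.mem_sup.1 (show (1 : A[X]) ∈ O ⊔ maxC A from h.symm ▸ Submodule.mem_top)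
    have hpe : p * e ∈ maxC A := Ideal.mul_mem_left _ _ he
    have : Ideal.Quotient.mk O p = Ideal.Quotient.mk O (p * e) := by
      rw [Ideal.Quotient.eq, show p - p * e = p * o by rw [eq_comm, eq_sub_iff_add_eq, ← mul_add, hoe, mul_one]]
      exact Ideal.mul_mem_left _ _ ho
    rw [this, (p * e).as_sum_support_C_mul_X_pow, map_sum]
    refine sum_mem fun a _ => ?_
    rw [show Ideal.Quotient.mk O (C ((p * e).coeff a) * X ^ a) = (p * e).coeff a • Ideal.Quotient.mk O (X ^ a) by
      rw [← smul_eq_C_mul]; rfl]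
    exact Submodule.smul_mem_smul (mem_maxC.1 hpe a) trivial
  have h0 := Submodule.eq_bot_of_le_smul_of_le_jacobson_bot (maximalIdeal A) _ Module.Finite.fg_top hle
    (maximalIdeal_le_jacobson _)
  rw [Ideal.eq_top_iff_one, ← Ideal.Quotient.eq_zero_iff_mem]
  exact (Submodule.mem_bot A).1 (h0 ▸ Submodule.mem_top)

namespace Bundle

variable {V M N : Type u} [AddCommGroup V] [Module A V]
    [AddCommGroup M] [Module A M] [Module A[X] M] [IsScalarTower A A[X] M]
    [AddCommGroup N] [Module A N] [Module A[X] N] [IsScalarTower A A[X] N]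
    (B : Bundle A V M N)

theorem i_mem_smul_top_iff [Module.Finite A[X] M] [Module.Projective A[X] M] (m : M) :
    B.i m ∈ (maximalIdeal A • ⊤ : Submodule A V) ↔ m ∈ (maxC A • ⊤ : Submodule A[X] M) := by
  refine ⟨fun h => ?_, fun h => ?_⟩
  · have key : ∀ v ∈ (maximalIdeal A • ⊤ : Submodule A V),
        ∃ k : ℕ, ∃ m' ∈ (maxC A • ⊤ : Submodule A[X] M), B.i m' = (B.τ ^ (k : ℤ)) v := by
      intro v hv
      refine Submodule.smul_induction_on hv (fun c hc x _ => ?_) (fun x y hx hy => ?_)
      · obtain ⟨k, m', hm'⟩ := B.i_exh x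
        exact ⟨k, c • m', maxC_smul_eq M hc m', by rw [map_smul, hm', map_smul]⟩
      · obtain ⟨k, mx, hmx, hx⟩ := hx
        obtain ⟨k', my, hmy, hy⟩ := hy
        exact ⟨max k k', _, add_mem (Submodule.smul_mem _ _ hmx) (Submodule.smul_mem _ _ hmy), by
          rw [map_add, map_add, B.i_exh_of_le hx (le_max_left k k'), B.i_exh_of_le hy (le_max_right k k')]⟩
    obtain ⟨k, m', hm', he⟩ := key _ h
    rw [← i_X_pow] at he
    rw [B.i_inj he] at hm'
    obtain ⟨r, b, hb⟩ := exists_isModBasis (A := A) M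
    obtain ⟨σ, hσ, -⟩ := exists_coords hb
    have h1 : ∀ l, σ m l ∈ maxC A := by
      intro l
      have h2 := hb.2 (fun l => X ^ k * σ m l) (by
        simp only [mul_smul, ← Finset.smul_sum]
        have := sub_mem hm' (Submodule.smul_mem _ ((X : A[X]) ^ k) (hσ m))
        rwa [← smul_sub, sub_sub_cancel] at this) l
      rw [mem_maxC] at h2 ⊢
      intro a
      have := h2 (a + k)
      rwa [coeff_X_pow_mul] at this
    have := add_mem (hσ m) (sum_mem (t := Finset.univ) (f := fun l => σ m l • b l)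
      (S := (maxC A • ⊤ : Submodule A[X] M)) fun l _ => Submodule.smul_mem_smul (h1 l) trivial)
    rwa [sub_add_cancel] at this
  · refine Submodule.smul_induction_on h (fun p hp x _ => ?_) (fun x y hx hy => ?_)
    · rw [i_smul_eq_sum]
      exact sum_mem fun a _ => Submodule.smul_mem_smul (mem_maxC.1 hp a) trivial
    · rw [map_add]; exact add_mem hx hy

theorem exists_bound [Module.Projective A[X] M] [Module.Finite A[X] N] {r : ℕ} {b : Fin r → M}
    (hb : IsModBasis (maxC A) b) :
    ∃ K : ℕ, ∀ (m : M) (n : N) (d : ℤ), m ∉ (maxC A • ⊤ : Submodule A[X] M) →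
      B.i m - (B.τ ^ d) (B.j n) ∈ (maximalIdeal A • ⊤ : Submodule A V) → -(K : ℤ) ≤ d := by
  classical
  obtain ⟨σ, hσ, -⟩ := exists_coords hb
  choose K μ hμ using fun l => B.exists_transpose ((LinearMap.proj l : (Fin r → A[X]) →ₗ[A[X]] A[X]) ∘ₗ σ)
  refine ⟨Finset.univ.sup K, fun m n d hm hU => ?_⟩
  obtain ⟨l, hl⟩ : ∃ l, σ m l ∉ maxC A := by
    by_contra! hall
    apply hm
    have := add_mem (hσ m) (sum_mem (t := Finset.univ) (f := fun l => σ m l • b l)
      (S := (maxC A • ⊤ : Submodule A[X] M)) fun l _ => Submodule.smul_mem_smul (hall l) trivial)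
    rwa [sub_add_cancel] at this
  set L := (LinearMap.proj l : (Fin r → A[X]) →ₗ[A[X]] A[X]) ∘ₗ σ with hL
  have hU' : ∀ v ∈ (maximalIdeal A • ⊤ : Submodule A V), ∀ z, (B.extend L v).coeff z ∈ maximalIdeal A := by
    intro v hv
    refine Submodule.smul_induction_on hv (fun c hc x _ z => ?_) (fun x y hx hy z => ?_)
    · rw [map_smul]
      simpa using Ideal.mul_mem_right ((B.extend L x).coeff z) _ hc
    · rw [map_add]
      simpa using add_mem (hx z) (hy z)
  rw [mem_maxC] at hl
  push Not at hl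
  obtain ⟨a, ha⟩ := hl
  by_contra hd
  push Not at hd
  apply ha
  have h1 := hU' _ hU a
  rw [map_sub, extend_i, extend_zpow] at h1
  have h2 : (LaurentPolynomial.T d * B.extend L (B.j n)).coeff (a : ℤ) = 0 := by
    rw [coeff_T_mul]
    have h3 : (LaurentPolynomial.invert (toLaurent (μ l n))) =
        LaurentPolynomial.T (-(K l : ℤ)) * B.extend L (B.j n) := by
      rw [hμ l n, map_mul, LaurentPolynomial.invert_T, LaurentPolynomial.involutive_invert]
    have h4 := congrArg (fun f => f.coeff ((a : ℤ) - d - K l)) h3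
    simp only [LaurentPolynomial.invert_apply, coeff_T_mul] at h4
    have hK : K l ≤ Finset.univ.sup K := Finset.le_sup (Finset.mem_univ l)
    rw [coeff_toLaurent_of_neg _ (by omega)] at h4
    rw [show (a : ℤ) - d = (a : ℤ) - d - K l - -(K l : ℤ) by ring]
    exact h4.symm
  rwa [AddMonoidAlgebra.coeff_sub, Finsupp.sub_apply, h2, sub_zero, coeff_toLaurent_natCast] at h1

theorem exists_monic_of_section [Module.Finite A[X] N] {v : M} {w : N} (hvw : B.i v = B.j w)
    (l : M →ₗ[A[X]] A[X]) (hl : IsUnit ((l v).coeff 0)) :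
    ∃ (g : A[X]) (μ : N →ₗ[A[X]] A[X]), g.Monic ∧ μ w = g := by
  obtain ⟨K, μ, hμ⟩ := B.exists_transpose l
  obtain ⟨u, hu⟩ := hl
  have h1 := hμ w
  rw [← hvw, extend_i] at h1
  have hcoeff : ∀ a : ℕ, (μ w).coeff a = (toLaurent (l v)).coeff ((K : ℤ) - a) := fun a => by
    rw [← coeff_toLaurent_natCast, h1, coeff_T_mul, LaurentPolynomial.invert_apply, neg_sub]
  refine ⟨_, Polynomial.C (↑u⁻¹ : A) • μ, ?_, rfl⟩
  rw [LinearMap.smul_apply, smul_eq_mul]
  refine monic_of_natDegree_le_of_coeff_eq_one K ?_ ?_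
  · refine natDegree_le_iff_coeff_eq_zero.2 fun a ha => ?_
    rw [coeff_C_mul, hcoeff, coeff_toLaurent_of_neg _ (by omega), mul_zero]
  · rw [coeff_C_mul, hcoeff, sub_self, show (0 : ℤ) = ((0 : ℕ) : ℤ) from rfl, coeff_toLaurent_natCast,
      ← hu, Units.inv_mul]

theorem exists_dual_eq_one [Module.Projective A[X] M] [Module.Projective A[X] N] [Module.Finite A[X] M]
    {r r' : ℕ} {b : Fin r → M} (hb : IsModBasis (maxC A) b) {l₀ : Fin r}
    {c : Fin r' → N} (hc : IsModBasis (maxC A) c) {l₁ : Fin r'} (h : B.i (b l₀) = B.j (c l₁)) :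
    ∃ φ : M →ₗ[A[X]] A[X], φ (b l₀) = 1 := by
  obtain ⟨σ, -, hσ⟩ := exists_coords hb
  obtain ⟨ρ, -, hρ⟩ := exists_coords hc
  have hunit : IsUnit ((((LinearMap.proj l₁ : (Fin r' → A[X]) →ₗ[A[X]] A[X]) ∘ₗ ρ) (c l₁)).coeff 0) := by
    have := mem_maxC.1 (hρ l₁ l₁) 0
    rw [if_pos rfl, coeff_sub, coeff_one_zero, ← neg_sub, neg_mem_iff] at this
    refine (IsLocalRing.isUnit_or_isUnit_one_sub_self _).resolve_right ?_
    exact (mem_maximalIdeal _).1 this
  obtain ⟨g, μ, hg, hμ⟩ := B.swap.exists_monic_of_section h.symm _ hunit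
  let O : Ideal A[X] := LinearMap.range (Module.Dual.eval A[X] M (b l₀))
  have hO : O = ⊤ := by
    refine ideal_eq_top_of_monic ?_ hg ⟨μ, hμ⟩
    rw [Ideal.eq_top_iff_one]
    refine Submodule.mem_sup.2 ⟨_, ⟨(LinearMap.proj l₀ : (Fin r → A[X]) →ₗ[A[X]] A[X]) ∘ₗ σ, rfl⟩,
      -(σ (b l₀) l₀ - 1), neg_mem (by simpa using hσ l₀ l₀), ?_⟩
    show σ (b l₀) l₀ + -(σ (b l₀) l₀ - 1) = 1
    ring
  obtain ⟨φ, hφ⟩ : (1 : A[X]) ∈ O := hO.symm ▸ Submodule.mem_top
  exact ⟨φ, hφ⟩

theorem exists_lift_section [Module.Finite A[X] M] (d : ℤ)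
    (hG : ∀ x, ∃ m n, x - (B.i m + (B.τ ^ d) (B.j n)) ∈ (maximalIdeal A • ⊤ : Submodule A V))
    (m₀ : M) (n₀ : N) (h : B.i m₀ - (B.τ ^ d) (B.j n₀) ∈ (maximalIdeal A • ⊤ : Submodule A V)) :
    ∃ m₁ ∈ (maxC A • ⊤ : Submodule A[X] M), ∃ n₁ ∈ (maxC A • ⊤ : Submodule A[X] N),
      B.i (m₀ - m₁) = (B.τ ^ d) (B.j (n₀ + n₁)) := by
  classical
  set j' : N →ₗ[A] V := (B.τ ^ d : V ≃ₗ[A] V).toLinearMap ∘ₗ B.j with hj'
  set G : Submodule A V := LinearMap.range B.i ⊔ LinearMap.range j' with hGdef
  obtain ⟨s, g, hg⟩ := Module.Finite.exists_fin (R := A[X]) (M := M)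
  choose k n hn using fun a => B.j_exh ((B.τ ^ (-d)) (B.i (g a)))
  let F : Finset V := Finset.univ.biUnion fun a => (Finset.range (k a)).image fun z : ℕ =>
    (B.τ ^ (-(z : ℤ))) (B.i (g a))
  have hGF : (⊤ : Submodule A V) ≤ G ⊔ Submodule.span A (F : Set V) := by
    intro x _
    obtain ⟨e, m, hm⟩ := B.i_exh x
    obtain ⟨p, rfl⟩ := (Submodule.mem_span_range_iff_exists_fun A[X]).1
      (show m ∈ Submodule.span A[X] (Set.range g) from hg.symm ▸ Submodule.mem_top)
    have hx : x = (B.τ ^ (-(e : ℤ))) (B.i (∑ a, p a • g a)) := by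
      rw [hm, ← zpow_add_apply, neg_add_cancel, zpow_zero]; rfl
    rw [hx]
    simp only [map_sum, i_smul_eq_sum, map_smul]
    refine sum_mem fun a _ => sum_mem fun q _ => Submodule.smul_mem _ _ ?_
    rw [← zpow_add_apply]
    rcases le_or_gt 0 (-(e : ℤ) + q) with hz | hz
    · refine Submodule.mem_sup_left (Submodule.mem_sup_left ⟨(X : A[X]) ^ (-(e : ℤ) + q).toNat • g a, ?_⟩)
      rw [i_X_pow, Int.toNat_of_nonneg hz]
    rcases lt_or_ge (-(-(e : ℤ) + q)).toNat (k a) with hk | hk
    · refine Submodule.mem_sup_right (Submodule.subset_span (Finset.mem_biUnion.2 ⟨a, Finset.mem_univ _,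
        Finset.mem_image.2 ⟨(-(-(e : ℤ) + q)).toNat, Finset.mem_range.2 hk, ?_⟩⟩))
      congr 2
      omega
    · refine Submodule.mem_sup_left (Submodule.mem_sup_right
        ⟨(X : A[X]) ^ ((-(-(e : ℤ) + q)).toNat - k a) • n a, ?_⟩)
      show (B.τ ^ d) (B.j _) = _
      rw [j_X_pow, hn, ← zpow_add_apply, ← zpow_add_apply, ← zpow_add_apply]
      congr 2
      omega
  have htop : (⊤ : Submodule A V) ≤ G := by
    refine hGF.trans (sup_le le_rfl ?_)
    refine Submodule.le_of_le_smul_of_le_jacobson_bot (I := maximalIdeal A) ?_ (maximalIdeal_le_jacobson _) ?_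
    · exact Submodule.fg_span F.finite_toSet
    · intro x _
      obtain ⟨m, n, hmn⟩ := hG x
      have h1 : (maximalIdeal A • ⊤ : Submodule A V) ≤ G ⊔ maximalIdeal A • Submodule.span A (F : Set V) := by
        calc (maximalIdeal A • ⊤ : Submodule A V)
            ≤ maximalIdeal A • (G ⊔ Submodule.span A (F : Set V)) := Submodule.smul_mono le_rfl hGF
          _ = maximalIdeal A • G ⊔ maximalIdeal A • Submodule.span A (F : Set V) := Submodule.smul_sup _ _ _
          _ ≤ _ := sup_le_sup_right Submodule.smul_le_right _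
      have h2 : B.i m + (B.τ ^ d) (B.j n) ∈ G :=
        Submodule.add_mem_sup ⟨m, rfl⟩ ⟨n, rfl⟩
      have h3 := add_mem (h1 hmn) 
        (le_sup_left (b := maximalIdeal A • Submodule.span A (F : Set V)) h2)
      rwa [sub_add_cancel] at h3
  have key : ∀ y ∈ (maximalIdeal A • ⊤ : Submodule A V),
      ∃ m₁ ∈ (maxC A • ⊤ : Submodule A[X] M), ∃ n₁ ∈ (maxC A • ⊤ : Submodule A[X] N), y = B.i m₁ + j' n₁ := by
    intro y hy
    refine Submodule.smul_induction_on hy (fun c hc x _ => ?_) (fun x y hx hy => ?_)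
    · obtain ⟨_, ⟨m, rfl⟩, _, ⟨n, rfl⟩, rfl⟩ := Submodule.mem_sup.1 (htop (trivial : x ∈ _))
      exact ⟨c • m, maxC_smul_eq M hc m, c • n, maxC_smul_eq N hc n, by rw [smul_add, map_smul, map_smul]⟩
    · obtain ⟨m₁, hm₁, n₁, hn₁, rfl⟩ := hx
      obtain ⟨m₂, hm₂, n₂, hn₂, rfl⟩ := hy
      exact ⟨_, add_mem hm₁ hm₂, _, add_mem hn₁ hn₂, by rw [map_add, map_add]; abel⟩
  obtain ⟨m₁, hm₁, n₁, hn₁, he⟩ := key _ h
  refine ⟨m₁, hm₁, n₁, hn₁, ?_⟩
  rw [map_sub, map_add, map_add]
  simp only [hj', LinearMap.comp_apply, LinearEquiv.coe_coe] at he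
  rw [sub_eq_iff_eq_add] at he ⊢
  rw [he]
  abel

/-- The span of the translates of a section. -/
def lineSpan (v : M) : Submodule A V :=
  Submodule.span A (Set.range fun z : ℤ => (B.τ ^ z) (B.i v))

theorem map_lineSpan (v : M) : (B.lineSpan v).map B.τ.toLinearMap = B.lineSpan v := by
  rw [lineSpan, Submodule.map_span, ← Set.range_comp]
  congr 1
  ext x
  constructor
  · rintro ⟨z, rfl⟩
    exact ⟨1 + z, by simp [zpow_add_apply, zpow_one]⟩
  · rintro ⟨z, rfl⟩
    refine ⟨-1 + z, ?_⟩
    show B.τ ((B.τ ^ (-1 + z)) (B.i v)) = _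
    rw [zpow_add_apply, zpow_neg_one]
    exact LinearEquiv.apply_symm_apply _ _

theorem i_mem_lineSpan_iff {v : M} (φ : M →ₗ[A[X]] A[X]) (hφ : φ v = 1) (m : M) :
    B.i m ∈ B.lineSpan v ↔ m ∈ Submodule.span A[X] {v} := by
  refine ⟨fun h => ?_, fun h => ?_⟩
  · have key : ∀ x ∈ B.lineSpan v, ∃ (k : ℕ) (p : A[X]), B.i (p • v) = (B.τ ^ (k : ℤ)) x := by
      intro x hx
      induction hx using Submodule.span_induction with
      | mem x hx =>
        obtain ⟨z, rfl⟩ := hx
        refine ⟨(-z).toNat, X ^ z.toNat, ?_⟩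
        rw [i_X_pow, ← zpow_add_apply]
        congr 2
        omega
      | zero => exact ⟨0, 0, by simp⟩
      | add x y _ _ hx hy =>
        obtain ⟨k, p, hx⟩ := hx
        obtain ⟨k', q, hy⟩ := hy
        refine ⟨max k k', X ^ (max k k' - k) * p + X ^ (max k k' - k') * q, ?_⟩
        rw [add_smul, mul_smul, mul_smul, map_add, map_add, B.i_exh_of_le hx (le_max_left k k'),
          B.i_exh_of_le hy (le_max_right k k')]
      | smul c x _ hx =>
        obtain ⟨k, p, hx⟩ := hx
        refine ⟨k, c • p, ?_⟩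
        rw [smul_assoc, map_smul, hx, map_smul]
    obtain ⟨k, p, hp⟩ := key _ h
    rw [← i_X_pow] at hp
    have he := B.i_inj hp
    have h1 : p = X ^ k * φ m := by simpa [hφ] using congrArg φ he
    have h2 : (X : A[X]) ^ k • (m - φ m • v) = 0 := by rw [smul_sub, ← he, h1, mul_smul, sub_self]
    have h3 := B.i_X_pow k (m - φ m • v)
    rw [h2, map_zero] at h3
    have h4 : m - φ m • v = 0 := B.i_inj (by
      rw [map_zero]; exact (B.τ ^ (k : ℤ)).injective (h3.symm.trans (map_zero _).symm))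
    exact Submodule.mem_span_singleton.2 ⟨φ m, (sub_eq_zero.1 h4).symm⟩
  · obtain ⟨p, rfl⟩ := Submodule.mem_span_singleton.1 h
    rw [i_smul_eq_sum]
    exact sum_mem fun a _ => Submodule.smul_mem _ _ (Submodule.subset_span ⟨a, rfl⟩)

theorem swap_lineSpan {v : M} {w : N} (h : B.i v = B.j w) : B.swap.lineSpan w = B.lineSpan v := by
  have e : ∀ z : ℤ, (B.swap.τ ^ z) = B.τ ^ (-z) := fun z => by
    show B.τ⁻¹ ^ z = _
    rw [inv_zpow']
  rw [lineSpan, lineSpan]
  congr 1
  ext x
  constructor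
  · rintro ⟨z, rfl⟩
    exact ⟨-z, by show _ = (B.swap.τ ^ z) (B.j w); rw [e, h]⟩
  · rintro ⟨z, rfl⟩
    exact ⟨-z, by show (B.swap.τ ^ (-z)) (B.j w) = _; rw [e, neg_neg, h]⟩

end Bundle

theorem projective_quotient_line {M : Type u} [AddCommGroup M] [Module A[X] M] [Module.Projective A[X] M]
    {v : M} (φ : M →ₗ[A[X]] A[X]) (hφ : φ v = 1) :
    Module.Projective A[X] (M ⧸ Submodule.span A[X] {v}) ∧
      (Module.Free A[X] (M ⧸ Submodule.span A[X] {v}) → Module.Free A[X] M) := by
  let s : (M ⧸ Submodule.span A[X] {v}) →ₗ[A[X]] M :=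
    (Submodule.span A[X] {v}).liftQ (LinearMap.id - (LinearMap.toSpanSingleton A[X] M v) ∘ₗ φ) (by
      rw [Submodule.span_le, Set.singleton_subset_iff]
      simp [hφ])
  have hs : ∀ m : M, s (Submodule.Quotient.mk m) = m - φ m • v := fun m => rfl
  have h1 : (Submodule.span A[X] {v}).mkQ ∘ₗ s = LinearMap.id := by
    refine LinearMap.ext fun x => ?_
    obtain ⟨m, rfl⟩ := Submodule.Quotient.mk_surjective _ x
    show Submodule.Quotient.mk (s _) = Submodule.Quotient.mk m
    rw [hs, Submodule.Quotient.eq]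
    simpa using Submodule.smul_mem _ (φ m) (Submodule.mem_span_singleton_self v)
  refine ⟨Module.Projective.of_split s _ h1, fun _ => Module.Free.of_equiv (LinearEquiv.ofBijective
    ((LinearMap.toSpanSingleton A[X] M v).coprod s) ⟨?_, fun m => ?_⟩)⟩
  · rw [injective_iff_map_eq_zero]
    rintro ⟨p, x⟩ h
    obtain ⟨m, rfl⟩ := Submodule.Quotient.mk_surjective _ x
    simp only [LinearMap.coprod_apply, LinearMap.toSpanSingleton_apply, hs] at h
    have hp : p = 0 := by simpa [hφ] using congrArg φ h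
    subst hp
    rw [zero_smul, zero_add, sub_eq_zero] at h
    refine Prod.ext rfl ?_
    show Submodule.Quotient.mk m = 0
    rw [Submodule.Quotient.mk_eq_zero, h]
    exact Submodule.smul_mem _ _ (Submodule.mem_span_singleton_self v)
  · exact ⟨(φ m, Submodule.Quotient.mk m), by simp [hs]⟩

namespace Bundle

/-- **Horrocks**: over a local ring, a bundle on the projective line is free on the affine line. -/
theorem free_of_isModBasis (r : ℕ) :
    ∀ {V M N : Type u} [AddCommGroup V] [Module A V]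
      [AddCommGroup M] [Module A M] [Module A[X] M] [IsScalarTower A A[X] M]
      [AddCommGroup N] [Module A N] [Module A[X] N] [IsScalarTower A A[X] N]
      [Module.Finite A[X] M] [Module.Projective A[X] M] [Module.Finite A[X] N] [Module.Projective A[X] N]
      (_ : Bundle A V M N) (b : Fin r → M), IsModBasis (maxC A) b → Module.Free A[X] M := by
  induction r with
  | zero =>
    intro V M N _ _ _ _ _ _ _ _ _ _ _ _ _ _ B b hb
    have : (maxC A • ⊤ : Submodule A[X] M) = ⊤ := by
      simpa [Set.range_eq_empty b] using hb.1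
    have := subsingleton_of_maxC_smul_top M this
    exact inferInstance
  | succ r ih =>
    intro V M N _ _ _ _ _ _ _ _ _ _ _ _ _ _ B b₀ hb₀
    classical
    obtain ⟨K, hK⟩ := B.exists_bound hb₀
    let U : Submodule A V := maximalIdeal A • ⊤
    have hU : U.map B.τ.toLinearMap = U := by
      simp only [U, Submodule.map_smul'', Submodule.map_top, LinearMap.range_eq_top.2 B.τ.surjective]
    let JM : Submodule A[X] M := maxC A • ⊤
    let JN : Submodule A[X] N := maxC A • ⊤
    have hiU : ∀ m, B.i m ∈ U ↔ m ∈ JM := B.i_mem_smul_top_iff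
    have hjU : ∀ n, B.j n ∈ U ↔ n ∈ JN := B.swap.i_mem_smul_top_iff
    let Bq := B.quot U JM JN hU hiU hjU
    have hqzero : ∀ (p : A[X]), p ∈ maxC A → ∀ x : M ⧸ JM, p • x = 0 := fun p hp x => by
      obtain ⟨m, rfl⟩ := Submodule.Quotient.mk_surjective JM x
      exact (Submodule.Quotient.mk_eq_zero JM).2 (Submodule.smul_mem_smul hp trivial)
    have hqzeroN : ∀ (p : A[X]), p ∈ maxC A → ∀ x : N ⧸ JN, p • x = 0 := fun p hp x => by
      obtain ⟨n, rfl⟩ := Submodule.Quotient.mk_surjective JN x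
      exact (Submodule.Quotient.mk_eq_zero JN).2 (Submodule.smul_mem_smul hp trivial)
    have hqi : ∀ m, Bq.i (Submodule.Quotient.mk m) = Submodule.Quotient.mk (B.i m) := fun m => rfl
    have hqj : ∀ n, Bq.j (Submodule.Quotient.mk n) = Submodule.Quotient.mk (B.j n) := fun n => rfl
    have hqτ : ∀ (z : ℤ) v, (Bq.τ ^ z) (Submodule.Quotient.mk v) = Submodule.Quotient.mk ((B.τ ^ z) v) := by
      intro z
      induction z with
      | zero => intro v; rfl
      | succ a ih =>
        intro v
        rw [add_comm, zpow_add_apply, zpow_add_apply, ih, zpow_one, zpow_one]; rfl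
      | pred a ih =>
        intro v
        rw [sub_eq_add_neg, add_comm, zpow_add_apply, zpow_add_apply, ih, zpow_neg_one, zpow_neg_one]
        show Bq.τ.symm _ = _
        rw [LinearEquiv.symm_apply_eq]
        show _ = Submodule.Quotient.mk (B.τ (B.τ.symm _))
        rw [LinearEquiv.apply_symm_apply]
    have hqK : Bq.BoundedBelow K := by
      intro x y d hx hxy
      obtain ⟨m, rfl⟩ := Submodule.Quotient.mk_surjective JM x
      obtain ⟨n, rfl⟩ := Submodule.Quotient.mk_surjective JN y
      refine hK m n d (fun h => hx ((Submodule.Quotient.mk_eq_zero JM).2 h)) ?_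
      rw [hqi, hqj, hqτ] at hxy
      exact (Submodule.Quotient.eq U).1 hxy
    have hmodq : ∀ {P : Type u} [AddCommGroup P] [Module A[X] P] (c : Fin (r + 1) → P),
        IsModBasis (maxC A) (fun l => (Submodule.Quotient.mk (c l) : P ⧸ (maxC A • ⊤ : Submodule A[X] P))) ↔
          IsModBasis (maxC A) c := by
      intro P _ _ c
      set JP : Submodule A[X] P := maxC A • ⊤
      have hbot : (maxC A • ⊤ : Submodule A[X] (P ⧸ JP)) = ⊥ := eq_bot_iff.2 (Submodule.smul_le.2
        fun p hp x _ => by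
          obtain ⟨q, rfl⟩ := Submodule.Quotient.mk_surjective JP x
          exact (Submodule.mem_bot A[X]).2 ((Submodule.Quotient.mk_eq_zero JP).2 (Submodule.smul_mem_smul hp trivial)))
      have hspan : Submodule.span A[X] (Set.range fun l => (Submodule.Quotient.mk (c l) : P ⧸ JP)) =
          (Submodule.span A[X] (Set.range c)).map JP.mkQ := by
        rw [Submodule.map_span, ← Set.range_comp]; rfl
      have hsum : ∀ p : Fin (r + 1) → A[X], ∑ l, p l • (Submodule.Quotient.mk (c l) : P ⧸ JP) =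
          Submodule.Quotient.mk (∑ l, p l • c l) := fun p => by
        rw [← Submodule.mkQ_apply, map_sum]; rfl
      refine and_congr ?_ (forall_congr' fun p => ?_)
      · rw [hbot, sup_bot_eq, hspan, Submodule.map_mkQ_eq_top, sup_comm]
      · rw [hbot, Submodule.mem_bot, hsum, Submodule.Quotient.mk_eq_zero]
    obtain ⟨d, l₀, bq, wq, hbq, hwq, hsec, hG⟩ :=
      Bq.exists_reduced_basis hqzero hqzeroN hqK _ ((hmodq b₀).2 hb₀) (Nat.succ_ne_zero r)
    choose b hb using fun l => Submodule.Quotient.mk_surjective JM (bq l)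
    choose w hw using fun l => Submodule.Quotient.mk_surjective JN (wq l)
    obtain ⟨m₁, hm₁, n₁, hn₁, hsec'⟩ := B.exists_lift_section d (fun x => by
        obtain ⟨m, n, hmn⟩ := hG (Submodule.Quotient.mk x)
        obtain ⟨m, rfl⟩ := Submodule.Quotient.mk_surjective JM m
        obtain ⟨n, rfl⟩ := Submodule.Quotient.mk_surjective JN n
        refine ⟨m, n, ?_⟩
        rw [hqi, hqj, hqτ, ← Submodule.Quotient.mk_add] at hmn
        exact (Submodule.Quotient.eq U).1 hmn)
      (b l₀) (w l₀) (by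
        rw [← hb l₀, ← hw l₀, hqi, hqj, hqτ] at hsec
        exact (Submodule.Quotient.eq U).1 hsec)
    let b' := Function.update b l₀ (b l₀ - m₁)
    let w' := Function.update w l₀ (w l₀ + n₁)
    have hb' : IsModBasis (maxC A) b' := by
      refine (hmodq b').1 ?_
      have : (fun l => (Submodule.Quotient.mk (b' l) : M ⧸ JM)) = bq := funext fun l => by
        rcases eq_or_ne l l₀ with rfl | h
        · simp only [b', Function.update_self, Submodule.Quotient.mk_sub, hb,
            (Submodule.Quotient.mk_eq_zero JM).2 hm₁, sub_zero]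
        · simp only [b', Function.update_of_ne h, hb]
      rwa [this]
    have hw' : IsModBasis (maxC A) w' := by
      refine (hmodq w').1 ?_
      have : (fun l => (Submodule.Quotient.mk (w' l) : N ⧸ JN)) = wq := funext fun l => by
        rcases eq_or_ne l l₀ with rfl | h
        · simp only [w', Function.update_self, Submodule.Quotient.mk_add, hw,
            (Submodule.Quotient.mk_eq_zero JN).2 hn₁, add_zero]
        · simp only [w', Function.update_of_ne h, hw]
      rwa [this]
    let T := B.twist d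
    have hv : T.i (b' l₀) = T.j (w' l₀) := by
      simp only [b', w', Function.update_self]
      exact hsec'
    obtain ⟨φ, hφ⟩ := T.exists_dual_eq_one hb' hw' hv
    obtain ⟨ψ, hψ⟩ := T.swap.exists_dual_eq_one hw' hb' hv.symm
    obtain ⟨hP, hfree⟩ := projective_quotient_line φ hφ
    obtain ⟨hPN, -⟩ := projective_quotient_line ψ hψ
    let T' := T.quot (T.lineSpan (b' l₀)) (Submodule.span A[X] {b' l₀}) (Submodule.span A[X] {w' l₀})
      (T.map_lineSpan _) (T.i_mem_lineSpan_iff φ hφ)
      (fun n => by rw [← T.swap_lineSpan hv]; exact T.swap.i_mem_lineSpan_iff ψ hψ n)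
    let c : Fin r → M ⧸ Submodule.span A[X] {b' l₀} := fun l => Submodule.Quotient.mk (b' (l₀.succAbove l))
    have hc : IsModBasis (maxC A) c := by
      let L : Submodule A[X] M := Submodule.span A[X] {b' l₀}
      have hmap : (maxC A • ⊤ : Submodule A[X] (M ⧸ L)) = (maxC A • ⊤ : Submodule A[X] M).map L.mkQ := by
        rw [Submodule.map_smul'', Submodule.map_top, Submodule.range_mkQ]
      refine ⟨?_, fun p hp => ?_⟩
      · rw [eq_top_iff]
        intro x _
        obtain ⟨m, rfl⟩ := Submodule.Quotient.mk_surjective L x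
        obtain ⟨y, hy, z, hz, rfl⟩ := Submodule.mem_sup.1 (show m ∈ Submodule.span A[X] (Set.range b') ⊔ (maxC A • ⊤ : Submodule A[X] M) from hb'.1.symm ▸ Submodule.mem_top)
        obtain ⟨p, rfl⟩ := (Submodule.mem_span_range_iff_exists_fun A[X]).1 hy
        rw [Submodule.Quotient.mk_add]
        refine Submodule.add_mem_sup ?_ (hmap ▸ Submodule.mem_map_of_mem hz)
        rw [Fin.sum_univ_succAbove _ l₀, Submodule.Quotient.mk_add,
          (Submodule.Quotient.mk_eq_zero L).2 (Submodule.smul_mem _ _ (Submodule.mem_span_singleton_self _)),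
          zero_add, ← Submodule.mkQ_apply, map_sum]
        exact sum_mem fun l _ => by
          rw [map_smul]
          exact Submodule.smul_mem _ _ (Submodule.subset_span ⟨l, rfl⟩)
      · rw [hmap, show ∑ l, p l • c l = L.mkQ (∑ l, p l • b' (l₀.succAbove l)) by simp only [map_sum, map_smul]; rfl] at hp
        obtain ⟨z, hz, hzp⟩ := hp
        obtain ⟨q, hq⟩ := Submodule.mem_span_singleton.1 ((Submodule.Quotient.eq L).1 hzp)
        have := hb'.2 (l₀.insertNth q p) (by
          rw [Fin.sum_univ_succAbove _ l₀]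
          simp only [Fin.insertNth_apply_same, Fin.insertNth_apply_succAbove]
          rwa [hq, sub_add_cancel])
        intro l
        simpa using this (l₀.succAbove l)
    have : Module.Free A[X] (M ⧸ Submodule.span A[X] {b' l₀}) := ih T' c hc
    exact hfree this

theorem free {V M N : Type u} [AddCommGroup V] [Module A V]
    [AddCommGroup M] [Module A M] [Module A[X] M] [IsScalarTower A A[X] M]
    [AddCommGroup N] [Module A N] [Module A[X] N] [IsScalarTower A A[X] N]
    [Module.Finite A[X] M] [Module.Projective A[X] M] [Module.Finite A[X] N] [Module.Projective A[X] N]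
    (B : Bundle A V M N) : Module.Free A[X] M := by
  obtain ⟨r, b, hb⟩ := exists_isModBasis (A := A) M
  exact free_of_isModBasis r B b hb

end Bundle

end Groth.Calg8.Horrocks
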