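import Groth.Agent.Calg8.Horrocks.Patching
import Groth.Agent.Calg8.Horrocks.Local

/-!
Horrocks' theorem over an arbitrary ring: an idempotent matrix over `A[X]` which glues with one over
`A[X⁻¹]` is extended from `A`.
-/

universe u

open Polynomial
open scoped LaurentPolynomial

namespace Groth.Calg8.Horrocks

variable {A : Type u} [CommRing A] {n m : ℕ}

/-- `i ↦ x i` as a fixed vector of an idempotent matrix. -/
abbrev fixedPts {R : Type u} [CommRing R] (e : Matrix (Fin n) (Fin n) R) : Submodule R (Fin n → R) :=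
  LinearMap.eqLocus e.mulVecLin LinearMap.id

theorem mem_fixedPts {R : Type u} [CommRing R] {e : Matrix (Fin n) (Fin n) R} {x : Fin n → R} :
    x ∈ fixedPts e ↔ e.mulVec x = x := Iff.rfl

/-- The projection onto the fixed vectors. -/
def fixedProj {R : Type u} [CommRing R] (e : Matrix (Fin n) (Fin n) R) (he : e * e = e) :
    (Fin n → R) →ₗ[R] fixedPts e :=
  e.mulVecLin.codRestrict _ fun x => by
    show e.mulVec (e.mulVec x) = e.mulVec x
    rw [Matrix.mulVec_mulVec, he]

theorem fixedProj_comp_subtype {R : Type u} [CommRing R] (e : Matrix (Fin n) (Fin n) R) (he : e * e = e) :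
    fixedProj e he ∘ₗ (fixedPts e).subtype = LinearMap.id :=
  LinearMap.ext fun x => Subtype.ext x.2

theorem projective_fixedPts {R : Type u} [CommRing R] (e : Matrix (Fin n) (Fin n) R) (he : e * e = e) :
    Module.Projective R (fixedPts e) :=
  Module.Projective.of_split _ _ (fixedProj_comp_subtype e he)

theorem finite_fixedPts {R : Type u} [CommRing R] (e : Matrix (Fin n) (Fin n) R) (he : e * e = e) :
    Module.Finite R (fixedPts e) :=
  Module.Finite.of_surjective (fixedProj e he) fun x => ⟨x, LinearMap.congr_fun (fixedProj_comp_subtype e he) x⟩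

theorem exists_common_T_pow {k : ℕ} (y : Fin k → A[T;T⁻¹]) :
    ∃ (K : ℕ) (c : Fin k → A[X]), ∀ a, toLaurent (c a) = LaurentPolynomial.T (K : ℤ) * y a := by
  choose e p hp using fun a => LaurentPolynomial.exists_T_pow (y a)
  refine ⟨Finset.univ.sup e, fun a => X ^ (Finset.univ.sup e - e a) * p a, fun a => ?_⟩
  rw [map_mul, toLaurent_X_pow, hp, mul_comm (y a), ← mul_assoc, ← LaurentPolynomial.T_add]
  congr 2
  have : e a ≤ Finset.univ.sup e := Finset.le_sup (Finset.mem_univ a)
  omega

/-- Multiplication by `T`. -/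
noncomputable def mulT (W : Type u) [AddCommGroup W] [Module A W] [Module A[T;T⁻¹] W]
    [IsScalarTower A A[T;T⁻¹] W] : W ≃ₗ[A] W where
  toFun x := (LaurentPolynomial.T 1 : A[T;T⁻¹]) • x
  invFun x := (LaurentPolynomial.T (-1) : A[T;T⁻¹]) • x
  left_inv x := by dsimp only; rw [smul_smul, ← LaurentPolynomial.T_add, neg_add_cancel, LaurentPolynomial.T_zero, one_smul]
  right_inv x := by dsimp only; rw [smul_smul, ← LaurentPolynomial.T_add, add_neg_cancel, LaurentPolynomial.T_zero, one_smul]
  map_add' x y := smul_add _ x y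
  map_smul' c x := smul_comm _ c x

theorem mulT_zpow (W : Type u) [AddCommGroup W] [Module A W] [Module A[T;T⁻¹] W]
    [IsScalarTower A A[T;T⁻¹] W] (z : ℤ) (x : W) :
    ((mulT W : W ≃ₗ[A] W) ^ z) x = (LaurentPolynomial.T z : A[T;T⁻¹]) • x := by
  induction z generalizing x with
  | zero => simp
  | succ a ih =>
    rw [add_comm, zpow_add, zpow_one]
    show mulT W ((mulT W ^ (a : ℤ)) x) = _
    rw [ih, LaurentPolynomial.T_add, mul_smul]; rfl
  | pred a ih =>
    rw [sub_eq_add_neg, add_comm, zpow_add, zpow_neg_one]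
    show (mulT W).symm ((mulT W ^ (-(a : ℤ))) x) = _
    rw [ih, LaurentPolynomial.T_add, mul_smul]; rfl

section Gluing

variable (e : Matrix (Fin n) (Fin n) A[X]) (f : Matrix (Fin m) (Fin m) A[X])
  (P : Matrix (Fin n) (Fin m) A[T;T⁻¹]) (Q : Matrix (Fin m) (Fin n) A[T;T⁻¹])
  (hPQ : P * Q = e.map toLaurent) (hQP : Q * P = (f.map toLaurent).map LaurentPolynomial.invert)

theorem map_fixed {R S : Type u} [CommRing R] [CommRing S] (φ : R →+* S) {k : ℕ}
    (g : Matrix (Fin k) (Fin k) R) {c : Fin k → R} (hc : g.mulVec c = c) :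
    (g.map φ).mulVec (φ ∘ c) = φ ∘ c := by
  funext a
  rw [← RingHom.map_mulVec, hc]; rfl

theorem fixed_of_map {R S : Type u} [CommRing R] [CommRing S] (φ : R →+* S) (hφ : Function.Injective φ)
    {k : ℕ} (g : Matrix (Fin k) (Fin k) R) {c : Fin k → R} (s : S) (y : Fin k → S)
    (hc : φ ∘ c = s • y) (hy : (g.map φ).mulVec y = y) : g.mulVec c = c :=
  funext fun l => hφ (by
    rw [RingHom.map_mulVec, hc, Matrix.mulVec_smul, hy, ← hc]; rfl)

include hPQ hQP in
/-- The bundle defined by gluing matrices. -/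
theorem exists_bundle :
    Nonempty (Bundle A (fixedPts (e.map toLaurent)) (fixedPts e) (fixedPts f)) := by
  let g : A[X] →+* A[T;T⁻¹] := (LaurentPolynomial.invert (R := A)).toRingEquiv.toRingHom.comp toLaurent
  have hg : f.map g = (f.map toLaurent).map LaurentPolynomial.invert := by rw [Matrix.map_map]; rfl
  have hf' : ∀ c : fixedPts f, (Q * P).mulVec (g ∘ c.1) = g ∘ c.1 := fun c => by
    rw [hQP, ← hg]; exact @map_fixed A[X] A[T;T⁻¹] _ _ g m f c.1 c.2
  let i : fixedPts e →ₗ[A] fixedPts (e.map toLaurent) :=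
    { toFun := fun c => ⟨toLaurent ∘ c.1, @map_fixed A[X] A[T;T⁻¹] _ _ toLaurent n e c.1 c.2⟩
      map_add' := fun a b => Subtype.ext (funext fun l => map_add toLaurent _ _)
      map_smul' := fun r a => Subtype.ext (funext fun l => by
        show toLaurentAlg (r • a.1 l) = r • toLaurentAlg (a.1 l)
        rw [map_smul]) }
  let j : fixedPts f →ₗ[A] fixedPts (e.map toLaurent) :=
    { toFun := fun c => ⟨P.mulVec (g ∘ c.1), by
        rw [mem_fixedPts, Matrix.mulVec_mulVec, ← hPQ, Matrix.mul_assoc, ← Matrix.mulVec_mulVec, hf' c]⟩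
      map_add' := fun a b => Subtype.ext (by
        show P.mulVec (g ∘ (a.1 + b.1)) = P.mulVec (g ∘ a.1) + P.mulVec (g ∘ b.1)
        rw [← Matrix.mulVec_add]
        exact congrArg P.mulVec (funext fun l => map_add g _ _))
      map_smul' := fun r a => Subtype.ext (by
        show P.mulVec (g ∘ (r • a.1)) = r • P.mulVec (g ∘ a.1)
        rw [← Matrix.mulVec_smul]
        exact congrArg P.mulVec (funext fun l => by
          show LaurentPolynomial.invert (toLaurentAlg (r • a.1 l)) = r • LaurentPolynomial.invert (toLaurentAlg (a.1 l))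
          rw [map_smul, map_smul])) }
  have hgX : g X = LaurentPolynomial.T (-1) := by simp [g]
  refine ⟨⟨mulT _, i, j, fun a b h => ?_, fun a b h => ?_, fun c => ?_, fun c => ?_, fun v => ?_, fun v => ?_⟩⟩
  · exact Subtype.ext (funext fun l => toLaurent_injective (congrFun (congrArg Subtype.val h) l))
  · have h1 := congrArg (fun x => Q.mulVec x.1) h
    simp only [j, LinearMap.coe_mk, AddHom.coe_mk, Matrix.mulVec_mulVec, hf'] at h1
    exact Subtype.ext (funext fun l =>
      toLaurent_injective (LaurentPolynomial.invert.injective (congrFun h1 l)))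
  · refine Subtype.ext (funext fun l => ?_)
    show toLaurent ((X : A[X]) * c.1 l) = LaurentPolynomial.T 1 * toLaurent (c.1 l)
    rw [map_mul, toLaurent_X]
  · refine Subtype.ext ?_
    show P.mulVec (g ∘ ((X : A[X]) • c.1)) = (LaurentPolynomial.T (-1) : A[T;T⁻¹]) • P.mulVec (g ∘ c.1)
    rw [← Matrix.mulVec_smul]
    refine congrArg P.mulVec (funext fun l => ?_)
    simp only [Function.comp_apply, Pi.smul_apply, smul_eq_mul, map_mul, hgX]
  · obtain ⟨K, c, hc⟩ := exists_common_T_pow v.1
    have hcv : toLaurent ∘ c = (LaurentPolynomial.T (K : ℤ) : A[T;T⁻¹]) • v.1 := funext hc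
    refine ⟨K, ⟨c, @fixed_of_map A[X] A[T;T⁻¹] _ _ toLaurent toLaurent_injective n e c
      (LaurentPolynomial.T (K : ℤ)) v.1 hcv v.2⟩, Subtype.ext ?_⟩
    rw [mulT_zpow]; exact hcv
  · set y : Fin m → A[T;T⁻¹] := fun a => LaurentPolynomial.invert (Q.mulVec v.1 a)
    obtain ⟨K, c, hc⟩ := exists_common_T_pow y
    have hQv : (f.map g).mulVec (Q.mulVec v.1) = Q.mulVec v.1 := by
      rw [hg, ← hQP, ← Matrix.mulVec_mulVec, Matrix.mulVec_mulVec v.1 P Q, hPQ, mem_fixedPts.1 v.2]
    have hgc : g ∘ c = (LaurentPolynomial.T (-(K : ℤ)) : A[T;T⁻¹]) • Q.mulVec v.1 := funext fun a => by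
      show LaurentPolynomial.invert (toLaurent (c a)) = _
      rw [hc, map_mul, LaurentPolynomial.invert_T, LaurentPolynomial.involutive_invert]; rfl
    refine ⟨K, ⟨c, @fixed_of_map A[X] A[T;T⁻¹] _ _ g
      (LaurentPolynomial.invert.injective.comp toLaurent_injective) m f c
      (LaurentPolynomial.T (-(K : ℤ))) (Q.mulVec v.1) hgc hQv⟩, Subtype.ext ?_⟩
    · rw [mulT_zpow]
      show P.mulVec (g ∘ c) = (LaurentPolynomial.T (-(K : ℤ)) : A[T;T⁻¹]) • v.1
      rw [hgc, Matrix.mulVec_smul, Matrix.mulVec_mulVec, hPQ, mem_fixedPts.1 v.2]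

include hPQ hQP in
theorem exists_free_of_isLocalRing [IsLocalRing A] (he : e * e = e) (hf : f * f = f) :
    ∃ (r : ℕ) (U : Matrix (Fin n) (Fin r) A[X]) (V : Matrix (Fin r) (Fin n) A[X]), U * V = e ∧ V * U = 1 := by
  classical
  obtain ⟨B⟩ := exists_bundle e f P Q hPQ hQP
  have := projective_fixedPts e he
  have := finite_fixedPts e he
  have := projective_fixedPts f hf
  have := finite_fixedPts f hf
  have : Module.Free A[X] (fixedPts e) := B.free
  let b := Module.finBasis A[X] (fixedPts e)
  refine ⟨_, LinearMap.toMatrix' ((fixedPts e).subtype ∘ₗ b.equivFun.symm.toLinearMap),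
    LinearMap.toMatrix' (b.equivFun.toLinearMap ∘ₗ fixedProj e he), ?_, ?_⟩
  · rw [← LinearMap.toMatrix'_comp]
    have : ((fixedPts e).subtype ∘ₗ b.equivFun.symm.toLinearMap) ∘ₗ (b.equivFun.toLinearMap ∘ₗ fixedProj e he) =
        Matrix.toLin' e := LinearMap.ext fun x => by
      simp [fixedProj]
    rw [this, LinearMap.toMatrix'_toLin']
  · rw [← LinearMap.toMatrix'_comp]
    have : (b.equivFun.toLinearMap ∘ₗ fixedProj e he) ∘ₗ ((fixedPts e).subtype ∘ₗ b.equivFun.symm.toLinearMap) =
        LinearMap.id := LinearMap.ext fun x => by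
      have := LinearMap.congr_fun (fixedProj_comp_subtype e he) (b.equivFun.symm x)
      simp only [LinearMap.comp_apply, LinearEquiv.coe_coe, LinearMap.id_apply] at this ⊢
      rw [this, LinearEquiv.apply_symm_apply]
    rw [this, LinearMap.toMatrix'_id]

end Gluing

/-- Functoriality of Laurent polynomials. -/
noncomputable def laurentMap {B : Type u} [CommRing B] (φ : A →+* B) : A[T;T⁻¹] →+* B[T;T⁻¹] :=
  LaurentPolynomial.eval₂ (LaurentPolynomial.C.comp φ) (LaurentPolynomial.isUnit_T 1).unit

theorem laurentMap_toLaurent {B : Type u} [CommRing B] (φ : A →+* B) (p : A[X]) :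
    laurentMap φ (toLaurent p) = toLaurent (p.map φ) := by
  refine RingHom.congr_fun (f := (laurentMap φ).comp toLaurent) (g := toLaurent.comp (mapRingHom φ)) ?_ p
  refine ringHom_ext (fun a => ?_) ?_
  · simp [laurentMap]
  · simp [laurentMap]

theorem laurentMap_invert {B : Type u} [CommRing B] (φ : A →+* B) (x : A[T;T⁻¹]) :
    laurentMap φ (LaurentPolynomial.invert x) = LaurentPolynomial.invert (laurentMap φ x) := by
  induction x using LaurentPolynomial.induction_on' with
  | add p q hp hq => simp only [map_add, hp, hq]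
  | C_mul_T z r =>
    have hu : ∀ z : ℤ, (((LaurentPolynomial.isUnit_T 1).unit ^ z : B[T;T⁻¹]ˣ) : B[T;T⁻¹]) = LaurentPolynomial.T z := by
      intro z
      induction z with
      | zero => simp
      | succ a ih =>
        rw [zpow_add_one, Units.val_mul, ih, IsUnit.unit_spec, ← LaurentPolynomial.T_add]
      | pred a ih =>
        rw [zpow_sub_one, Units.val_mul, ih, sub_eq_add_neg, LaurentPolynomial.T_add]
        congr 1
        refine Units.inv_eq_of_mul_eq_one_right ?_
        rw [IsUnit.unit_spec, ← LaurentPolynomial.T_add]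
        simp
    simp only [map_mul, LaurentPolynomial.invert_C, LaurentPolynomial.invert_T, laurentMap,
      LaurentPolynomial.eval₂_C, LaurentPolynomial.eval₂_T, RingHom.comp_apply, hu]

/-- **Horrocks' theorem**: if an idempotent matrix over `A[X]` glues with one over `A[X⁻¹]` then it
is extended from `A`. -/
theorem extended_of_gluing {e : Matrix (Fin n) (Fin n) A[X]} {f : Matrix (Fin m) (Fin m) A[X]}
    (he : e * e = e) (hf : f * f = f)
    {P : Matrix (Fin n) (Fin m) A[T;T⁻¹]} {Q : Matrix (Fin m) (Fin n) A[T;T⁻¹]}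
    (hPQ : P * Q = e.map toLaurent) (hQP : Q * P = (f.map toLaurent).map LaurentPolynomial.invert) :
    ∃ U V : Matrix (Fin n) (Fin n) A[X], U * V = e.map (fun p => C (p.eval 0)) ∧ V * U = e := by
  refine extended_of_locally_free he fun p _ => ?_
  set φ := algebraMap A (Localization.AtPrime p)
  refine exists_free_of_isLocalRing _ (f.map (mapRingHom φ)) (P.map (laurentMap φ)) (Q.map (laurentMap φ))
    ?_ ?_ (by rw [← Matrix.map_mul, he]) (by rw [← Matrix.map_mul, hf])
  · rw [← Matrix.map_mul, hPQ, Matrix.map_map, Matrix.map_map]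
    ext a b : 1
    simp [laurentMap_toLaurent]
  · rw [← Matrix.map_mul, hQP]
    ext a b : 1
    simp [laurentMap_invert, laurentMap_toLaurent]

end Groth.Calg8.Horrocks
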