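import Mathlib

/-!
Quillen patching for idempotent matrices over `A[X]`, via the ideal of those `a` for which the
pullbacks along `t ↦ t + a s` and `t ↦ t` are isomorphic.
-/

universe u

open Polynomial

namespace Groth.Calg8.Horrocks

variable {A : Type u} [CommRing A] {n : ℕ}

/-- `t ↦ t + a s`. -/
noncomputable def shiftHom (a : A) : A[X] →+* A[X][X] :=
  eval₂RingHom ((C : A[X] →+* A[X][X]).comp C) (C X + C (C a) * X)

/-- `s ↦ c s`. -/
noncomputable def scaleHom (c : A) : A[X][X] →+* A[X][X] :=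
  eval₂RingHom C (C (C c) * X)

/-- `(t, s) ↦ (t + b s, s)`. -/
noncomputable def shiftHom₂ (b : A) : A[X][X] →+* A[X][X] :=
  eval₂RingHom (shiftHom b) X

@[simp] theorem shiftHom_C (a r : A) : shiftHom a (C r) = C (C r) := by simp [shiftHom]

@[simp] theorem shiftHom_X (a : A) : shiftHom a X = C X + C (C a) * X := by simp [shiftHom]

@[simp] theorem scaleHom_C (c : A) (p : A[X]) : scaleHom c (C p) = C p := by simp [scaleHom]

@[simp] theorem scaleHom_X (c : A) : scaleHom c X = C (C c) * X := by simp [scaleHom]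

@[simp] theorem shiftHom₂_C (b : A) (p : A[X]) : shiftHom₂ b (C p) = shiftHom b p := by
  simp [shiftHom₂]

@[simp] theorem shiftHom₂_X (b : A) : shiftHom₂ b X = X := by simp [shiftHom₂]

theorem shiftHom_zero : shiftHom (0 : A) = C := ringHom_ext (by simp) (by simp)

theorem scaleHom_comp_C (c : A) : (scaleHom c).comp C = C := RingHom.ext fun p => by simp

theorem scaleHom_comp_shiftHom (c a : A) : (scaleHom c).comp (shiftHom a) = shiftHom (c * a) :=
  ringHom_ext (by simp) (by simp; ring)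

theorem shiftHom₂_comp_C (b : A) : (shiftHom₂ b).comp C = shiftHom b := RingHom.ext fun p => by simp

theorem shiftHom₂_comp_shiftHom (a b : A) : (shiftHom₂ b).comp (shiftHom a) = shiftHom (b + a) :=
  ringHom_ext (by simp) (by simp; ring)

theorem scaleHom_mul (c w : A) : scaleHom (c * w) = (scaleHom w).comp (scaleHom c) :=
  ringHom_ext (by simp) (by simp; ring)

theorem coeff_zero_scaleHom (c : A) (p : A[X][X]) : (scaleHom c p).coeff 0 = p.coeff 0 := by
  induction p using Polynomial.induction_on' with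
  | add p q hp hq => simp [hp, hq]
  | monomial i r => cases i <;> simp [← C_mul_X_pow_eq_monomial, mul_pow, coeff_zero_eq_eval_zero]

theorem coeff_zero_shiftHom (a : A) (p : A[X]) : (shiftHom a p).coeff 0 = p := by
  have h : (evalRingHom (0 : A[X])).comp (shiftHom a) = RingHom.id _ := ringHom_ext (by simp) (by simp)
  simpa [coeff_zero_eq_eval_zero] using RingHom.congr_fun h p

/-- The set of `a` with `e(t) ≅ e(t + a s)`. -/
def Shifts (e : Matrix (Fin n) (Fin n) A[X]) : Set A :=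
  {a | ∃ U V : Matrix (Fin n) (Fin n) A[X][X], U * V = e.map C ∧ V * U = e.map (shiftHom a)}

variable {e : Matrix (Fin n) (Fin n) A[X]}

theorem zero_mem_shifts (he : e * e = e) : (0 : A) ∈ Shifts e :=
  ⟨e.map C, e.map C, by rw [← Matrix.map_mul, he], by rw [shiftHom_zero, ← Matrix.map_mul, he]⟩

theorem mul_mem_shifts {a : A} (c : A) (ha : a ∈ Shifts e) : c * a ∈ Shifts e := by
  obtain ⟨U, V, h1, h2⟩ := ha
  refine ⟨U.map (scaleHom c), V.map (scaleHom c), ?_, ?_⟩
  · rw [← Matrix.map_mul, h1, Matrix.map_map, ← RingHom.coe_comp, scaleHom_comp_C]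
  · rw [← Matrix.map_mul, h2, Matrix.map_map, ← RingHom.coe_comp, scaleHom_comp_shiftHom]

theorem add_mem_shifts (he : e * e = e) {a b : A} (ha : a ∈ Shifts e) (hb : b ∈ Shifts e) :
    b + a ∈ Shifts e := by
  obtain ⟨Ua, Va, a1, a2⟩ := ha
  obtain ⟨Ub, Vb, b1, b2⟩ := hb
  have a1' : Ua.map (shiftHom₂ b) * Va.map (shiftHom₂ b) = e.map (shiftHom b) := by
    rw [← Matrix.map_mul, a1, Matrix.map_map, ← RingHom.coe_comp, shiftHom₂_comp_C]
  have a2' : Va.map (shiftHom₂ b) * Ua.map (shiftHom₂ b) = e.map (shiftHom (b + a)) := by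
    rw [← Matrix.map_mul, a2, Matrix.map_map, ← RingHom.coe_comp, shiftHom₂_comp_shiftHom]
  have hC : (e.map C : Matrix (Fin n) (Fin n) A[X][X]) * e.map C = e.map C := by rw [← Matrix.map_mul, he]
  have hS : e.map (shiftHom (b + a)) * e.map (shiftHom (b + a)) = e.map (shiftHom (b + a)) := by
    rw [← Matrix.map_mul, he]
  refine ⟨Ub * Ua.map (shiftHom₂ b), Va.map (shiftHom₂ b) * Vb, ?_, ?_⟩
  · calc Ub * Ua.map (shiftHom₂ b) * (Va.map (shiftHom₂ b) * Vb)
        = Ub * (Ua.map (shiftHom₂ b) * Va.map (shiftHom₂ b)) * Vb := by simp only [Matrix.mul_assoc]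
      _ = (Ub * Vb) * (Ub * Vb) := by rw [a1', ← b2]; simp only [Matrix.mul_assoc]
      _ = e.map C := by rw [b1, hC]
  · calc Va.map (shiftHom₂ b) * Vb * (Ub * Ua.map (shiftHom₂ b))
        = Va.map (shiftHom₂ b) * (Vb * Ub) * Ua.map (shiftHom₂ b) := by simp only [Matrix.mul_assoc]
      _ = (Va.map (shiftHom₂ b) * Ua.map (shiftHom₂ b)) * (Va.map (shiftHom₂ b) * Ua.map (shiftHom₂ b)) := by
          rw [b2, ← a1']; simp only [Matrix.mul_assoc]
      _ = e.map (shiftHom (b + a)) := by rw [a2', hS]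

/-- The shifts form an ideal. -/
def shiftIdeal (he : e * e = e) : Ideal A where
  carrier := Shifts e
  zero_mem' := zero_mem_shifts he
  add_mem' := fun ha hb => by rw [add_comm]; exact add_mem_shifts he ha hb
  smul_mem' := fun c _ ha => mul_mem_shifts c ha

section Lift

theorem exists_lift_polynomial {R R' : Type*} [CommRing R] [CommRing R'] (f : R →+* R') (S : Submonoid R)
    (h : ∀ y, ∃ c ∈ S, ∃ x, f c * y = f x) (q : R'[X]) :
    ∃ c ∈ S, ∃ p : R[X], C (f c) * q = p.map f := by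
  induction q using Polynomial.induction_on' with
  | add q₁ q₂ h₁ h₂ =>
    obtain ⟨c₁, hc₁, p₁, e₁⟩ := h₁
    obtain ⟨c₂, hc₂, p₂, e₂⟩ := h₂
    refine ⟨c₁ * c₂, S.mul_mem hc₁ hc₂, C c₂ * p₁ + C c₁ * p₂, ?_⟩
    rw [Polynomial.map_add, Polynomial.map_mul, Polynomial.map_mul, map_C, map_C, ← e₁, ← e₂, map_mul,
      C_mul]
    ring
  | monomial i r =>
    obtain ⟨c, hc, x, hx⟩ := h r
    exact ⟨c, hc, monomial i x, by rw [C_mul_monomial, hx, map_monomial]⟩

theorem exists_kill_polynomial {R R' : Type*} [CommRing R] [CommRing R'] (f : R →+* R') (S : Submonoid R)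
    (h : ∀ x, f x = 0 → ∃ c ∈ S, c * x = 0) (p : R[X]) (hp : p.map f = 0) :
    ∃ c ∈ S, C c * p = 0 := by
  classical
  have h' : ∀ i, ∃ c ∈ S, c * p.coeff i = 0 := fun i => h _ (by
    have := congrArg (fun q => q.coeff i) hp
    simpa [coeff_map] using this)
  choose c hc hci using h'
  refine ⟨∏ i ∈ p.support, c i, S.prod_mem fun i _ => hc i, ext fun i => ?_⟩
  rw [coeff_C_mul, coeff_zero]
  by_cases hi : i ∈ p.support
  · rw [← Finset.prod_erase_mul _ _ hi, mul_assoc, hci i, mul_zero]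
  · rw [notMem_support_iff.1 hi, mul_zero]

variable (S : Submonoid A) {B : Type u} [CommRing B] (φ : A →+* B)

theorem scaleHom_mapRingHom (c : A) (p : A[X][X]) :
    mapRingHom (mapRingHom φ) (scaleHom c p) = scaleHom (φ c) (mapRingHom (mapRingHom φ) p) := by
  refine RingHom.congr_fun (f := (mapRingHom (mapRingHom φ)).comp (scaleHom c))
    (g := (scaleHom (φ c)).comp (mapRingHom (mapRingHom φ))) ?_ p
  exact ringHom_ext (by simp) (by simp)

theorem shiftHom_mapRingHom (a : A) (p : A[X]) :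
    mapRingHom (mapRingHom φ) (shiftHom a p) = shiftHom (φ a) (mapRingHom φ p) := by
  refine RingHom.congr_fun (f := (mapRingHom (mapRingHom φ)).comp (shiftHom a))
    (g := (shiftHom (φ a)).comp (mapRingHom φ)) ?_ p
  exact ringHom_ext (by simp) (by simp)

variable (hsurj : ∀ y, ∃ c ∈ S, ∃ x, φ c * y = φ x) (hinj : ∀ x, φ x = 0 → ∃ c ∈ S, c * x = 0)

include hsurj in
/-- Polynomials without constant term become integral after scaling the variable. -/
theorem exists_scale_lift (p : B[X][X]) (hp : p.coeff 0 = 0) :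
    ∃ c ∈ S, ∀ w, ∃ p' : A[X][X], p'.coeff 0 = 0 ∧
      mapRingHom (mapRingHom φ) p' = scaleHom (φ (c * w)) p := by
  obtain ⟨q, rfl⟩ := X_dvd_iff.2 hp
  have h1 : ∀ y : B[X], ∃ c ∈ S.map (C : A →+* A[X]), ∃ x, mapRingHom φ c * y = mapRingHom φ x := fun y => by
    obtain ⟨c, hc, x, hx⟩ := exists_lift_polynomial φ S hsurj y
    exact ⟨C c, ⟨c, hc, rfl⟩, x, by simpa using hx⟩
  obtain ⟨_, ⟨c, hc, rfl⟩, q', hq'⟩ := exists_lift_polynomial (mapRingHom φ) (S.map (C : A →+* A[X])) h1 q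
  rw [coe_mapRingHom, map_C] at hq'
  refine ⟨c, hc, fun w => ⟨scaleHom w (X * scaleHom c q'), ?_, ?_⟩⟩
  · rw [coeff_zero_scaleHom]; simp
  · have hX : mapRingHom (mapRingHom φ) (X : A[X][X]) = X := by simp
    have hq : mapRingHom (mapRingHom φ) q' = C (C (φ c)) * q := by
      rw [coe_mapRingHom, ← hq']
    have key : X * scaleHom (φ c) (C (C (φ c)) * q) = scaleHom (φ c) (X * q) := by
      rw [map_mul (scaleHom (φ c)) (C (C (φ c))) q, map_mul (scaleHom (φ c)) X q, scaleHom_C, scaleHom_X]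
      ring
    calc mapRingHom (mapRingHom φ) (scaleHom w (X * scaleHom c q'))
        = scaleHom (φ w) (mapRingHom (mapRingHom φ) X * mapRingHom (mapRingHom φ) (scaleHom c q')) := by
          rw [scaleHom_mapRingHom φ w, map_mul (mapRingHom (mapRingHom φ))]
      _ = scaleHom (φ w) (scaleHom (φ c) (X * q)) := by rw [hX, scaleHom_mapRingHom φ c, hq, key]
      _ = scaleHom (φ (c * w)) (X * q) := by rw [map_mul φ, scaleHom_mul]; rfl

include hinj in
/-- Polynomials without constant term which vanish in `B` vanish after scaling the variable. -/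
theorem exists_scale_kill (p : A[X][X]) (hp : p.coeff 0 = 0) (h : mapRingHom (mapRingHom φ) p = 0) :
    ∃ c ∈ S, ∀ w, scaleHom (c * w) p = 0 := by
  obtain ⟨q, rfl⟩ := X_dvd_iff.2 hp
  have hq : mapRingHom (mapRingHom φ) q = 0 := by
    rw [map_mul, coe_mapRingHom, map_X] at h
    ext i : 1
    simpa using congrArg (fun r => r.coeff (i + 1)) h
  have h1 : ∀ x : A[X], mapRingHom φ x = 0 → ∃ c ∈ S.map (C : A →+* A[X]), c * x = 0 := fun x hx => by
    obtain ⟨c, hc, hcx⟩ := exists_kill_polynomial φ S hinj x hx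
    exact ⟨C c, ⟨c, hc, rfl⟩, hcx⟩
  obtain ⟨_, ⟨c, hc, rfl⟩, hcq⟩ := exists_kill_polynomial (mapRingHom φ) _ h1 q hq
  refine ⟨c, hc, fun w => ?_⟩
  rw [scaleHom_mul, RingHom.comp_apply]
  have : scaleHom c (X * q) = 0 := by
    have h2 : scaleHom c (X * q) = X * scaleHom c (C (C c) * q) := by
      simp only [map_mul, scaleHom_X, scaleHom_C]
      ring
    rw [h2, hcq, map_zero, mul_zero]
  rw [this, map_zero]

theorem exists_common_scale {ι : Type*} [Finite ι] (P : ι → A → Prop)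
    (h : ∀ i, ∃ c ∈ S, ∀ w, P i (c * w)) : ∃ c ∈ S, ∀ w i, P i (c * w) := by
  classical
  cases nonempty_fintype ι
  choose c hc hP using h
  refine ⟨∏ i, c i, S.prod_mem fun i _ => hc i, fun w i => ?_⟩
  rw [← Finset.mul_prod_erase _ _ (Finset.mem_univ i), mul_assoc]
  exact hP i _

include hsurj hinj in
/-- If `e` is extended after localisation then some element of the multiplicative set is a shift. -/
theorem exists_mem_shifts (he : e * e = e) (r : ℕ) (U₀ : Matrix (Fin n) (Fin r) B[X])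
    (V₀ : Matrix (Fin r) (Fin n) B[X]) (h1 : U₀ * V₀ = e.map (mapRingHom φ)) (h2 : V₀ * U₀ = 1) :
    ∃ c ∈ S, c ∈ Shifts e := by
  classical
  set Φ : A[X][X] →+* B[X][X] := mapRingHom (mapRingHom φ)
  let σ : B[X] →+* B[X][X] := shiftHom 1
  let U := U₀.map C * V₀.map σ
  let V := U₀.map σ * V₀.map C
  have hσ : V₀.map σ * U₀.map σ = 1 := by
    rw [← Matrix.map_mul, h2, Matrix.map_one _ (map_zero σ) (map_one σ)]
  have hC : (V₀.map C : Matrix (Fin r) (Fin n) B[X][X]) * U₀.map C = 1 := by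
    rw [← Matrix.map_mul, h2, Matrix.map_one _ (map_zero C) (map_one C)]
  have hUV : U * V = (e.map C).map Φ := by
    calc U * V = U₀.map C * ((V₀.map σ * U₀.map σ) * V₀.map C) := by simp only [U, V, Matrix.mul_assoc]
      _ = (U₀ * V₀).map C := by rw [hσ, Matrix.one_mul, Matrix.map_mul]
      _ = (e.map C).map Φ := by
          rw [h1, Matrix.map_map, Matrix.map_map]
          ext i j : 1
          simp [Φ]
  have hVU : V * U = (e.map (shiftHom 1)).map Φ := by
    calc V * U = U₀.map σ * ((V₀.map C * U₀.map C) * V₀.map σ) := by simp only [U, V, Matrix.mul_assoc]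
      _ = (U₀ * V₀).map σ := by rw [hC, Matrix.one_mul, Matrix.map_mul]
      _ = (e.map (shiftHom 1)).map Φ := by
          rw [h1, Matrix.map_map, Matrix.map_map]
          ext i j : 1
          simp only [Matrix.map_apply, Function.comp_apply, Φ, σ, shiftHom_mapRingHom, map_one]
  have h0σ : ∀ p : B[X], (σ p).coeff 0 = p := coeff_zero_shiftHom 1
  have hU0 : ∀ i j, (U i j).coeff 0 = mapRingHom φ (e i j) := fun i j => by
    have := congrArg (fun M => M i j) h1
    simp only [Matrix.map_apply] at this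
    simp [U, Matrix.mul_apply, mul_coeff_zero, h0σ, ← this]
  have hV0 : ∀ i j, (V i j).coeff 0 = mapRingHom φ (e i j) := fun i j => by
    have := congrArg (fun M => M i j) h1
    simp only [Matrix.map_apply] at this
    simp [V, Matrix.mul_apply, mul_coeff_zero, h0σ, ← this]
  obtain ⟨c₁, hc₁, hU⟩ := exists_common_scale S (fun (ij : Fin n × Fin n) c => ∃ p' : A[X][X],
      p'.coeff 0 = 0 ∧ Φ p' = scaleHom (φ c) (U ij.1 ij.2 - C (mapRingHom φ (e ij.1 ij.2))))
    fun ij => exists_scale_lift S φ hsurj _ (by simp [hU0])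
  obtain ⟨c₂, hc₂, hV⟩ := exists_common_scale S (fun (ij : Fin n × Fin n) c => ∃ p' : A[X][X],
      p'.coeff 0 = 0 ∧ Φ p' = scaleHom (φ c) (V ij.1 ij.2 - C (mapRingHom φ (e ij.1 ij.2))))
    fun ij => exists_scale_lift S φ hsurj _ (by simp [hV0])
  set c := c₁ * c₂ with hc
  choose U₁ hU₁0 hU₁ using fun i j => hU c₂ (i, j)
  choose V₁ hV₁0 hV₁ using fun i j => hV c₁ (i, j)
  rw [mul_comm c₂ c₁] at hV₁
  let U₂ : Matrix (Fin n) (Fin n) A[X][X] := e.map C + Matrix.of U₁
  let V₂ : Matrix (Fin n) (Fin n) A[X][X] := e.map C + Matrix.of V₁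
  have hΦC : ∀ p, Φ (C p) = C (mapRingHom φ p) := fun p => by simp [Φ]
  have hU₂ : U₂.map Φ = U.map (scaleHom (φ c)) := by
    ext i j : 1
    simp only [U₂, Matrix.map_apply, Matrix.add_apply, Matrix.of_apply, map_add, hU₁, hΦC, map_sub,
      scaleHom_C, hc]
    abel
  have hV₂ : V₂.map Φ = V.map (scaleHom (φ c)) := by
    ext i j : 1
    simp only [V₂, Matrix.map_apply, Matrix.add_apply, Matrix.of_apply, map_add, hV₁, hΦC, map_sub,
      scaleHom_C, hc]
    abel
  have hU₂0 : ∀ i j, (U₂ i j).coeff 0 = e i j := fun i j => by simp [U₂, hU₁0]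
  have hV₂0 : ∀ i j, (V₂ i j).coeff 0 = e i j := fun i j => by simp [V₂, hV₁0]
  have hee : ∀ i j, ∑ l, e i l * e l j = e i j := fun i j => by
    rw [← Matrix.mul_apply, he]
  let E₁ := U₂ * V₂ - e.map C
  let E₂ := V₂ * U₂ - e.map (shiftHom c)
  have hE₁ : E₁.map Φ = 0 := by
    rw [Matrix.map_sub _ (map_sub Φ), Matrix.map_mul, hU₂, hV₂, ← Matrix.map_mul, hUV, Matrix.map_map,
      sub_eq_zero]
    ext i j : 1
    simp [hΦC]
  have hE₂ : E₂.map Φ = 0 := by
    rw [Matrix.map_sub _ (map_sub Φ), Matrix.map_mul, hU₂, hV₂, ← Matrix.map_mul, hVU, sub_eq_zero]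
    ext i j : 1
    simp only [Matrix.map_apply, Φ, shiftHom_mapRingHom]
    rw [← RingHom.comp_apply, scaleHom_comp_shiftHom, map_one, mul_one]
  obtain ⟨w₁, hw₁, hk₁⟩ := exists_common_scale S (fun (ij : Fin n × Fin n) w => scaleHom w (E₁ ij.1 ij.2) = 0)
    fun ij => exists_scale_kill S φ hinj _ (by
      simp [E₁, Matrix.mul_apply, mul_coeff_zero, hU₂0, hV₂0, hee])
      (congrFun (congrFun hE₁ ij.1) ij.2)
  obtain ⟨w₂, hw₂, hk₂⟩ := exists_common_scale S (fun (ij : Fin n × Fin n) w => scaleHom w (E₂ ij.1 ij.2) = 0)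
    fun ij => exists_scale_kill S φ hinj _ (by
      simp [E₂, Matrix.mul_apply, mul_coeff_zero, hU₂0, hV₂0, hee, coeff_zero_shiftHom])
      (congrFun (congrFun hE₂ ij.1) ij.2)
  set w := w₁ * w₂
  have k₁ : E₁.map (scaleHom w) = 0 := Matrix.ext fun i j => hk₁ w₂ (i, j)
  have k₂ : E₂.map (scaleHom w) = 0 := Matrix.ext fun i j => by
    simpa [w, mul_comm w₁ w₂] using hk₂ w₁ (i, j)
  rw [Matrix.map_sub _ (map_sub (scaleHom w)), Matrix.map_mul, sub_eq_zero, Matrix.map_map] at k₁ k₂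
  rw [← RingHom.coe_comp, scaleHom_comp_C] at k₁
  rw [← RingHom.coe_comp, scaleHom_comp_shiftHom] at k₂
  exact ⟨w * c, S.mul_mem (S.mul_mem hw₁ hw₂) (S.mul_mem hc₁ hc₂), U₂.map (scaleHom w),
    V₂.map (scaleHom w), k₁, k₂⟩

end Lift

/-- **Quillen patching**: an idempotent matrix over `A[X]` which is free at all localisations at
maximal ideals is extended from `A`. -/
theorem extended_of_locally_free (he : e * e = e)
    (h : ∀ (m : Ideal A) [m.IsMaximal], ∃ (r : ℕ)
      (U : Matrix (Fin n) (Fin r) (Localization.AtPrime m)[X])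
      (V : Matrix (Fin r) (Fin n) (Localization.AtPrime m)[X]),
      U * V = e.map (mapRingHom (algebraMap A (Localization.AtPrime m))) ∧ V * U = 1) :
    ∃ U V : Matrix (Fin n) (Fin n) A[X], U * V = e.map (fun p => C (p.eval 0)) ∧ V * U = e := by
  have htop : shiftIdeal he = ⊤ := by
    by_contra hne
    obtain ⟨m, hm, hle⟩ := Ideal.exists_le_maximal _ hne
    obtain ⟨r, U, V, h1, h2⟩ := h m
    obtain ⟨c, hc, hcs⟩ := exists_mem_shifts m.primeCompl (algebraMap A (Localization.AtPrime m))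
      (fun y => by
        obtain ⟨x, s, hxs⟩ := IsLocalization.exists_mk'_eq m.primeCompl y
        exact ⟨s, s.2, x, by rw [← hxs, mul_comm, IsLocalization.mk'_spec]⟩)
      (fun x hx => by
        obtain ⟨s, hs⟩ := (IsLocalization.map_eq_zero_iff m.primeCompl (Localization.AtPrime m) x).1 hx
        exact ⟨s, s.2, hs⟩) he r U V h1 h2
    exact hc (hle hcs)
  obtain ⟨U, V, h1, h2⟩ : (1 : A) ∈ shiftIdeal he := htop ▸ trivial
  let ε : A[X][X] →+* A[X] := eval₂RingHom (C.comp (evalRingHom 0)) X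
  have hεC : ∀ p, ε (C p) = C (p.eval 0) := fun p => by simp [ε]
  have hεσ : ∀ p, ε (shiftHom 1 p) = p := fun p => by
    have : ε.comp (shiftHom 1) = RingHom.id _ := ringHom_ext (by simp [ε]) (by simp [ε])
    simpa using RingHom.congr_fun this p
  refine ⟨U.map ε, V.map ε, ?_, ?_⟩
  · rw [← Matrix.map_mul, h1, Matrix.map_map]
    ext i j : 1
    simp [hεC]
  · rw [← Matrix.map_mul, h2, Matrix.map_map]
    ext i j : 1
    simp [hεσ]

end Groth.Calg8.Horrocks
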