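import Mathlib

/-!
Finite projective modules as images of idempotent matrices, and their base change.
-/

universe u

open scoped TensorProduct

namespace Groth.Calg8.Horrocks

variable {R : Type u} [CommRing R]

/-- A finite projective module is a direct summand of a finite free module. -/
theorem exists_split (M : Type u) [AddCommGroup M] [Module R M] [Module.Finite R M] [Module.Projective R M] :
    ∃ (n : ℕ) (ι : M →ₗ[R] (Fin n → R)) (ρ : (Fin n → R) →ₗ[R] M), ρ ∘ₗ ι = LinearMap.id := by
  obtain ⟨n, ρ, ι, _, _, h⟩ := Module.Finite.exists_comp_eq_id_of_projective R M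
  exact ⟨n, ι, ρ, h⟩

variable (S : Type u) [CommRing S] [Algebra R S]
  {M : Type u} [AddCommGroup M] [Module R M] {n : ℕ}
  (ι : M →ₗ[R] (Fin n → R)) (ρ : (Fin n → R) →ₗ[R] M)

/-- Coordinates after base change. -/
noncomputable def bcIn : S ⊗[R] M →ₗ[S] (Fin n → S) :=
  ((Algebra.linearMap R S).compLeft (Fin n) ∘ₗ ι).liftBaseChange S

/-- Projection after base change. -/
noncomputable def bcOut : (Fin n → S) →ₗ[S] S ⊗[R] M :=
  Fintype.linearCombination S fun a => (1 : S) ⊗ₜ[R] ρ (Pi.single a 1)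

theorem bcIn_tmul (x : S) (m : M) : bcIn S ι (x ⊗ₜ m) = x • (algebraMap R S ∘ ι m) := rfl

theorem bcOut_algebraMap (c : Fin n → R) : bcOut S ρ (algebraMap R S ∘ c) = (1 : S) ⊗ₜ ρ c := by
  classical
  have hc : c = ∑ a, c a • (Pi.single a (1 : R) : Fin n → R) := by
    funext b
    simp [Pi.single_apply]
  conv_rhs => rw [hc, map_sum, TensorProduct.tmul_sum]
  rw [bcOut, Fintype.linearCombination_apply]
  refine Finset.sum_congr rfl fun a _ => ?_
  rw [Function.comp_apply, algebraMap_smul, map_smul, TensorProduct.tmul_smul]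

theorem bcOut_comp_bcIn (h : ρ ∘ₗ ι = LinearMap.id) : bcOut S ρ ∘ₗ bcIn S ι = LinearMap.id := by
  refine LinearMap.ext fun z => ?_
  induction z using TensorProduct.induction_on with
  | zero => simp
  | add x y hx hy => rw [map_add, hx, hy, map_add]
  | tmul x m =>
    rw [LinearMap.comp_apply, bcIn_tmul, map_smul, bcOut_algebraMap,
      show ρ (ι m) = m from LinearMap.congr_fun h m, LinearMap.id_apply, TensorProduct.smul_tmul', smul_eq_mul,
      mul_one]

theorem bcIn_comp_bcOut :
    bcIn S ι ∘ₗ bcOut S ρ = Matrix.toLin' ((LinearMap.toMatrix' (ι ∘ₗ ρ)).map (algebraMap R S)) := by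
  classical
  refine LinearMap.pi_ext' fun a => LinearMap.ext_ring ?_
  funext b
  simp [bcOut, bcIn_tmul, Fintype.linearCombination_apply, Pi.single_apply, LinearMap.toMatrix'_apply]

theorem toMatrix'_bcIn_comp_bcOut :
    LinearMap.toMatrix' (bcIn S ι ∘ₗ bcOut S ρ) = (LinearMap.toMatrix' (ι ∘ₗ ρ)).map (algebraMap R S) := by
  rw [bcIn_comp_bcOut, LinearMap.toMatrix'_toLin']

end Groth.Calg8.Horrocks
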